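import Mathlib

/-!
# An element of order three of the alternating group of degree five normalises a four-group
-/

set_option autoImplicit false

namespace Cfsg.Agent.Char.OrderNine.OneClass

set_option maxRecDepth 100000 in
set_option synthInstance.maxSize 2000 in
theorem exists_klein : ∀ g : alternatingGroup (Fin 5), g ^ 3 = 1 →
    ∃ u : alternatingGroup (Fin 5), u ≠ 1 ∧ u * u = 1 ∧
      ∃ v : alternatingGroup (Fin 5), v ≠ 1 ∧ v ≠ u ∧ v * v = 1 ∧ u * v = v * u ∧
        g * u * g⁻¹ = v ∧ g * v * g⁻¹ = u * v ∨ g = 1 := by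
  decide +kernel

/-- A four-group normalised by an element of order three. -/
theorem exists_four {g : alternatingGroup (Fin 5)} (h3 : g ^ 3 = 1) (h1 : g ≠ 1) :
    ∃ V : Subgroup (alternatingGroup (Fin 5)), Nat.card V = 4 ∧ ∀ w ∈ V, g * w * g⁻¹ ∈ V := by
  classical
  obtain ⟨u, hu1, huu, v, h⟩ := exists_klein g h3
  obtain ⟨hv1, hvu, hvv, huv, hgu, hgv⟩ := h.resolve_right h1
  have hui : u⁻¹ = u := inv_eq_of_mul_eq_one_right huu
  have hvi : v⁻¹ = v := inv_eq_of_mul_eq_one_right hvv
  have e1 : v * (u * v) = u := by rw [← mul_assoc, ← huv, mul_assoc, hvv, mul_one]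
  have e2 : u * (u * v) = v := by rw [← mul_assoc, huu, one_mul]
  let S : Finset (alternatingGroup (Fin 5)) := {1, u, v, u * v}
  let V : Subgroup (alternatingGroup (Fin 5)) :=
    { carrier := ↑S
      one_mem' := by simp [S]
      mul_mem' := by
        intro a b ha hb
        simp only [S, Finset.coe_insert, Finset.coe_singleton, Set.mem_insert_iff, Set.mem_singleton_iff] at ha hb ⊢
        rcases ha with rfl | rfl | rfl | rfl <;> rcases hb with rfl | rfl | rfl | rfl <;>
          simp [huu, hvv, ← huv, e1, e2, mul_assoc]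
      inv_mem' := by
        intro a ha
        simp only [S, Finset.coe_insert, Finset.coe_singleton, Set.mem_insert_iff, Set.mem_singleton_iff] at ha ⊢
        rcases ha with rfl | rfl | rfl | rfl
        · simp
        · simp [hui]
        · simp [hvi]
        · simp [hui, hvi, huv] }
  have huv1 : u * v ≠ 1 := fun e => hvu ((eq_inv_of_mul_eq_one_right e).trans hui)
  have huvu : u * v ≠ u := fun e => hv1 (mul_eq_left.mp e)
  have huvv : u * v ≠ v := fun e => hu1 (mul_eq_right.mp e)
  refine ⟨V, ?_, fun w hw => ?_⟩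
  · show Nat.card ↥(S : Set (alternatingGroup (Fin 5))) = 4
    rw [Nat.card_coe_set_eq, Set.ncard_coe_finset]
    simp [S, hu1.symm, hv1.symm, hvu.symm, huv1.symm, huvu.symm, huvv.symm]
  · change w ∈ (S : Set (alternatingGroup (Fin 5))) at hw
    show g * w * g⁻¹ ∈ (S : Set (alternatingGroup (Fin 5)))
    simp only [S, Finset.coe_insert, Finset.coe_singleton, Set.mem_insert_iff, Set.mem_singleton_iff] at hw ⊢
    have e3 : g * (u * v) * g⁻¹ = u := by
      rw [show g * (u * v) * g⁻¹ = g * u * g⁻¹ * (g * v * g⁻¹) by group, hgu, hgv, e1]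
    rcases hw with rfl | rfl | rfl | rfl
    · simp
    · exact Or.inr (Or.inr (Or.inl hgu))
    · exact Or.inr (Or.inr (Or.inr hgv))
    · exact Or.inr (Or.inl e3)

end Cfsg.Agent.Char.OrderNine.OneClass
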