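import Cfsg.Agent.Lib.Char.OrderNine.OneClass.Classes

/-!
# The elements covered by invariant subgroups
-/

set_option autoImplicit false
set_option linter.unusedSectionVars false
set_option linter.style.haveILetI false

namespace Cfsg.Agent.Char.OrderNine.OneClass

open scoped commutatorElement

universe u

variable {G : Type u} [Group G] [Fintype G] {y : G}

/-- The allowance for a Sylow subgroup of the odd prime. -/
def qBound (q a b : ℕ) : ℕ :=
  if q ^ b % 3 = 1 ∧ ((3 * 2 ^ a) % q = 1 ∨ (3 * 2 ^ (a - 1)) % q = 1) then 6 * (q ^ b - 1) else 0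

/-- The allowance for the two-subgroups. -/
def twoBound (a : ℕ) : ℕ :=
  54 + if a % 2 = 0 then 6 * (2 ^ a - 1) else 6 * (2 ^ (a - 1) - 1)

theorem four_comm {X : Subgroup G} (h4 : Nat.card X = 4) :
    ∀ v ∈ X, ∀ w ∈ X, v * w = w * v := fun v hv w hw => by
  haveI : Fact (Nat.Prime 2) := ⟨Nat.prime_two⟩
  exact congrArg Subtype.val (IsPGroup.commutative_of_card_eq_prime_sq (p := 2) (G := ↥X)
    (by rw [h4]; norm_num) ⟨v, hv⟩ ⟨w, hw⟩)

variable [IsSimpleGroup G] {q a b : ℕ}

/-- A maximal invariant subgroup of order four is its own centraliser. -/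
theorem Hyp.four_cent (h : Hyp y) {X : Subgroup G} (hX : IsMaxInv y X) (h4 : Nat.card X = 4) :
    Subgroup.centralizer (X : Set G) ≤ X := by
  haveI : Fact (Nat.Prime 3) := ⟨Nat.prime_three⟩
  set C := Subgroup.centralizer (X : Set G) with hC
  have hXC : X ≤ C := fun x hx => Subgroup.mem_centralizer_iff.2 fun v hv =>
    four_comm h4 v hv x hx
  have hyC : y ∈ Subgroup.normalizer (C : Set G) := by
    refine Solv.mem_normalizer_of_map_conj ?_
    refine Subgroup.eq_of_le_of_card_ge ?_ (le_of_eq (Subgroup.card_map_of_injective (MulEquiv.injective _)).symm)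
    rintro _ ⟨c, hc, rfl⟩
    rw [hC, Subgroup.mem_centralizer_iff]
    intro s hs
    have h1 : y⁻¹ * s * y ∈ X := by simpa using conj_mem (inv_mem hX.1.1) hs
    have h2 := hc _ h1
    show s * (y * c * y⁻¹) = y * c * y⁻¹ * s
    calc s * (y * c * y⁻¹) = y * (y⁻¹ * s * y * c) * y⁻¹ := by group
      _ = y * (c * (y⁻¹ * s * y)) * y⁻¹ := by rw [h2]
      _ = _ := by group
  have h3 : ¬ 3 ∣ Nat.card C := by
    intro hd
    obtain ⟨⟨w, hwC⟩, hw⟩ := exists_prime_orderOf_dvd_card' 3 hd
    rw [Subgroup.orderOf_mk] at hw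
    refine hX.2.1 ((Subgroup.eq_bot_iff_forall X).2 fun x hx =>
      h.eq_one_of_commute hX.1.2 hx (w := w) (by rw [← hw]; exact pow_orderOf_eq_one w)
        (fun e => by rw [e, orderOf_one] at hw; norm_num at hw) (hwC x hx))
  exact (hX.2.2 C ⟨hyC, h3⟩ hXC).le

/-- Invariants of the conjugacy type of a maximal invariant four-group inside a Sylow two-subgroup. -/
theorem Hyp.four_code (h : Hyp y) (ha : 3 ≤ a) {T : Subgroup G} (hT : Nat.card T = 2 ^ a)
    {V : Subgroup G} (hV : IsMaxInv y V) (hVT : V ≤ T) (h4 : Nat.card V = 4) :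
    Nat.card (↥T ⧸ commutator ↥T) = 4 ∧
    ∃ v : T, (v : G) ∈ V ∧ QuotientGroup.mk (s := commutator ↥T) v ≠ QuotientGroup.mk (1 : T) ∧
      v ∉ Subgroup.center T ∧ (∀ z ∈ Subgroup.center T, (z : G) ∈ V) ∧ Nat.card (Subgroup.center T) = 2 ∧
      ∀ w : T, QuotientGroup.mk (s := commutator ↥T) w = QuotientGroup.mk v → IsConj v w := by
  classical
  haveI : Fact (Nat.Prime 2) := ⟨Nat.prime_two⟩
  have hTp : IsPGroup 2 T := IsPGroup.of_card hT
  haveI : Nontrivial T := Finite.one_lt_card_iff_nontrivial.1 (hT ▸ Nat.one_lt_pow (by omega) (by norm_num))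
  have h8 : 8 ≤ Nat.card T := hT ▸ Nat.pow_le_pow_right (n := 2) two_pos ha
  set V' := V.subgroupOf T with hV'
  have hV'4 : Nat.card V' = 4 := by rw [hV', Nat.card_congr (Subgroup.subgroupOfEquivOfLe hVT).toEquiv, h4]
  have hcent : ∀ t : T, (∀ v ∈ V', t * v = v * t) → t ∈ V' := fun t ht => Subgroup.mem_subgroupOf.2 <|
    h.four_cent hV h4 (Subgroup.mem_centralizer_iff.2 fun x hx =>
      (congrArg Subtype.val (ht ⟨x, hVT hx⟩ (Subgroup.mem_subgroupOf.2 hx))).symm)
  set Z := Subgroup.center T with hZ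
  have hZV : Z ≤ V' := fun z hz => hcent z fun v _ => (Subgroup.mem_center_iff.1 hz v).symm
  have hnotall : ¬ ∀ t u : T, t * u = u * t := fun hall => by
    have := Subgroup.card_le_of_le (show (⊤ : Subgroup T) ≤ V' from fun t _ => hcent t fun v _ => hall t v)
    rw [Subgroup.card_top, hV'4] at this
    omega
  have hZ2 : Nat.card Z = 2 := by
    haveI := hTp.center_nontrivial
    have h1 : 1 < Nat.card Z := Finite.one_lt_card_iff_nontrivial.2 inferInstance
    have h2 := Subgroup.card_dvd_of_le hZV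
    rw [hV'4] at h2
    have h3 := Nat.le_of_dvd (by norm_num) h2
    have h4' : Nat.card Z ≠ 4 := fun e => by
      have heq := Subgroup.eq_of_le_of_card_ge hZV (by rw [e, hV'4])
      have := Subgroup.card_le_of_le (show (⊤ : Subgroup T) ≤ V' from fun t _ =>
        hcent t fun v hv => Subgroup.mem_center_iff.1 (heq ▸ hv : v ∈ Z) t)
      rw [Subgroup.card_top, hV'4] at this
      omega
    interval_cases hk : Nat.card Z <;> first | rfl | omega
  obtain ⟨v, hvV, hvZ⟩ : ∃ v ∈ V', v ∉ Z := by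
    by_contra hno
    push Not at hno
    have := Subgroup.card_le_of_le (show V' ≤ Z from hno)
    omega
  have hcv : Subgroup.centralizer ({v} : Set T) ≤ V' := fun t ht => by
    have htv : t * v = v * t := Subgroup.mem_centralizer_singleton_iff.1 ht
    refine hcent t fun w hw => ?_
    set K := V' ⊓ Subgroup.centralizer ({t} : Set T) with hK
    have hZK : Z ≤ K := fun z hz =>
      ⟨hZV hz, Subgroup.mem_centralizer_singleton_iff.2 (Subgroup.mem_center_iff.1 hz t).symm⟩
    have hvK : v ∈ K := ⟨hvV, Subgroup.mem_centralizer_singleton_iff.2 htv.symm⟩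
    have hlt : 2 < Nat.card K := by
      have h1 := Subgroup.card_le_of_le hZK
      rcases h1.lt_or_eq with e | e
      · omega
      · exact absurd (Subgroup.eq_of_le_of_card_ge hZK e.ge ▸ hvK) hvZ
    have hKd := Subgroup.card_dvd_of_le (inf_le_left : K ≤ V')
    rw [hV'4] at hKd
    have hKV : K = V' := Subgroup.eq_of_le_of_card_ge inf_le_left (by
      have := Nat.le_of_dvd (by norm_num) hKd
      interval_cases hk : Nat.card K <;> omega)
    exact (Subgroup.mem_centralizer_singleton_iff.1 (hKV ▸ hw : w ∈ K).2).symm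
  -- the derived quotient
  set D := commutator T with hD
  have hidx : 3 ≤ Nat.card (↥T ⧸ D) := by
    by_contra hlt
    obtain ⟨t, ht⟩ : ∃ t : T, Subgroup.zpowers t ⊔ D = ⊤ := by
      by_cases htop : D = ⊤
      · exact ⟨1, by rw [htop, sup_top_eq]⟩
      obtain ⟨t, ht⟩ : ∃ t, t ∉ D := by
        by_contra hno
        push Not at hno
        exact htop ((Subgroup.eq_top_iff' D).2 hno)
      refine ⟨t, ?_⟩
      set S := Subgroup.zpowers t ⊔ D with hS
      have hlt' : D < S := lt_of_le_of_ne le_sup_right fun e =>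
        ht (e ▸ Subgroup.mem_sup_left (Subgroup.mem_zpowers t))
      have h1 := Subgroup.index_dvd_of_le hlt'.le
      rw [Subgroup.index_eq_card D] at h1
      have h2 : S.index ≠ Nat.card (↥T ⧸ D) := fun e => by
        have hc := S.card_mul_index
        rw [e, ← D.index_eq_card, ← D.card_mul_index] at hc
        have hc' := Nat.eq_of_mul_eq_mul_right (Nat.pos_of_ne_zero D.index_ne_zero_of_finite) hc
        exact hlt'.ne (Subgroup.eq_of_le_of_card_ge hlt'.le hc'.le)
      rw [← Subgroup.index_eq_one]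
      have := Nat.le_of_dvd (Nat.card_pos) h1
      have := Nat.pos_of_ne_zero S.index_ne_zero_of_finite
      omega
    have htop : Subgroup.zpowers t = ⊤ := frattini_nongenerating (eq_top_iff.2 (ht ▸ sup_le_sup_left
      (Solv.commutator_le_frattini_pgroup hTp) _))
    refine hnotall fun r s => ?_
    obtain ⟨i, rfl⟩ := Subgroup.mem_zpowers_iff.1 (htop ▸ Subgroup.mem_top r : r ∈ Subgroup.zpowers t)
    obtain ⟨j, rfl⟩ := Subgroup.mem_zpowers_iff.1 (htop ▸ Subgroup.mem_top s : s ∈ Subgroup.zpowers t)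
    exact ((Commute.refl t).zpow_zpow i j).eq
  haveI : D.Normal := by rw [hD]; infer_instance
  set Cl := (Finset.univ : Finset T).filter fun w => IsConj v w with hCl
  set Fib := (Finset.univ : Finset T).filter fun w => (QuotientGroup.mk w : ↥T ⧸ D) = QuotientGroup.mk v with hFib
  have hsub : Cl ⊆ Fib := fun w hw => by
    simp only [hCl, hFib, Finset.mem_filter, Finset.mem_univ, true_and] at hw ⊢
    obtain ⟨g, rfl⟩ := isConj_iff.1 hw
    rw [QuotientGroup.eq]
    have : (g * v * g⁻¹)⁻¹ * v = ⁅g, v⁻¹⁆ := by rw [commutatorElement_def]; group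
    rw [this, hD]
    exact Subgroup.commutator_mem_commutator (Subgroup.mem_top g) (Subgroup.mem_top _)
  have hFc : Fib.card = Nat.card D := by
    rw [Nat.card_eq_fintype_card, Fintype.card_subtype]
    refine Finset.card_equiv (Equiv.mulLeft v⁻¹) fun w => ?_
    simp only [hFib, Finset.mem_filter, Finset.mem_univ, true_and, Equiv.coe_mulLeft]
    rw [eq_comm, QuotientGroup.eq]
  have hCc : Nat.card T ≤ 4 * Cl.card := by
    have h1 := card_conjClass_mul_centralizer v
    rw [Nat.card_eq_fintype_card (α := {x : T // IsConj v x}), Fintype.card_subtype] at h1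
    rw [← h1, mul_comm 4, hCl]
    exact Nat.mul_le_mul le_rfl (hV'4 ▸ Subgroup.card_le_of_le hcv)
  have hq4 : Nat.card (↥T ⧸ D) = 4 := by
    have h1 : Nat.card (↥T ⧸ D) * Nat.card D = Nat.card T := by
      rw [← Subgroup.card_eq_card_quotient_mul_card_subgroup]
    have h2 := Finset.card_le_card hsub
    rw [hFc] at h2
    have h3 : Nat.card (↥T ⧸ D) * Nat.card D ≤ 4 * Nat.card D := by omega
    have h4 := Nat.le_of_mul_le_mul_right h3 Nat.card_pos
    have h5 : Nat.card (↥T ⧸ D) ∣ 2 ^ a := hT ▸ Dvd.intro _ h1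
    obtain ⟨i, -, hi⟩ := (Nat.dvd_prime_pow Nat.prime_two).1 h5
    rw [hi] at h4 hidx ⊢
    have : i < 3 := by
      by_contra hge
      have := Nat.pow_le_pow_right (n := 2) two_pos (show 3 ≤ i by omega)
      omega
    interval_cases i <;> simp_all
  have heq : Cl = Fib := by
    refine Finset.eq_of_subset_of_card_le hsub ?_
    have h1 : Nat.card (↥T ⧸ D) * Nat.card D = Nat.card T := by
      rw [← Subgroup.card_eq_card_quotient_mul_card_subgroup]
    rw [hq4] at h1
    omega
  refine ⟨hq4, v, Subgroup.mem_subgroupOf.1 hvV, fun e1 => hvZ ?_, hvZ,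
    fun z hz => Subgroup.mem_subgroupOf.1 (hZV hz), hZ2, fun w hw => ?_⟩
  · have h1 : (1 : T) ∈ Fib := Finset.mem_filter.2 ⟨Finset.mem_univ _, e1.symm⟩
    rw [← heq] at h1
    rw [isConj_one_left.1 (Finset.mem_filter.1 h1).2]
    exact Z.one_mem
  · have h1 : w ∈ Fib := Finset.mem_filter.2 ⟨Finset.mem_univ _, hw⟩
    rw [← heq] at h1
    exact (Finset.mem_filter.1 h1).2

/-- The elements of the invariant subgroups. -/
theorem Hyp.cover_bound (h : Hyp y) (hq : q.Prime) (hq2 : q ≠ 2) (hq3 : q ≠ 3) (ha : 3 ≤ a) (hb : 1 ≤ b)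
    (hcard : Nat.card G = 9 * 2 ^ a * q ^ b)
    (hburn : ∀ u : G, orderOf u = 2 → ∀ S : Subgroup G, Nat.card S = q ^ b → ∃ s ∈ S, u * s ≠ s * u)
    (U : Finset G) (hU : ∀ u ∈ U, u ≠ 1 ∧ ∃ A : Subgroup G, Inv y A ∧ u ∈ A) :
    U.card ≤ qBound q a b + twoBound a := by
  classical
  haveI := Fact.mk hq
  haveI : Fact (Nat.Prime 2) := ⟨Nat.prime_two⟩
  haveI : Fintype (Subgroup G) := Fintype.ofFinite _
  let M : ℕ := if a % 2 = 0 then 2 ^ a else 2 ^ (a - 1)
  let fam : ℕ → Finset (Subgroup G) := fun n =>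
    (Finset.univ : Finset (Subgroup G)).filter fun X => IsMaxInv y X ∧ Nat.card X = n
  let body : Finset (Subgroup G) → Finset G := fun s =>
    s.biUnion fun X => ((Finset.univ : Finset G).filter fun u => u ∈ X).erase 1
  have hbody : ∀ (n : ℕ) (s : Finset (Subgroup G)), s ⊆ fam n → ∀ m, s.card ≤ m → (body s).card ≤ m * (n - 1) := by
    intro n s hs m hm
    refine (Finset.card_biUnion_le_card_mul s _ (n - 1) fun X hX => ?_).trans (Nat.mul_le_mul hm le_rfl)
    rw [Finset.card_erase_of_mem (by simp), ← Fintype.card_subtype, ← Nat.card_eq_fintype_card,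
      (Finset.mem_filter.1 (hs hX)).2.2]
  -- the three kinds
  have hkind : ∀ X, IsMaxInv y X → Nat.card X = q ^ b ∨ Nat.card X = 4 ∨ (Nat.card X = M ∧ Nat.card X ≠ 4) := by
    intro X hX
    rcases h.pure hq hq2 hq3 hcard hburn hX with ⟨n, hn⟩ | e
    · right
      by_cases e4 : Nat.card X = 4
      · exact Or.inl e4
      refine Or.inr ⟨?_, e4⟩
      have h3 := h.card_mod_three hX.1
      have hmod : ∀ k : ℕ, 2 ^ k % 3 = if k % 2 = 0 then 1 else 2 := fun k => by
        induction k with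
        | zero => rfl
        | succ k ih => rw [pow_succ, Nat.mul_mod, ih]; split_ifs <;> omega
      rcases (h.two_size hq hq2 hcard hX hn).resolve_left e4 with e | e
      · rw [e, hmod] at h3
        split_ifs at h3 with h'
        · simp only [M, if_pos h']; exact e
        · omega
      · have e' : Nat.card X = 2 ^ (a - 1) := by
          have : 2 ^ a = 2 ^ (a - 1) * 2 := by rw [← pow_succ]; congr 1; omega
          omega
        rw [e', hmod] at h3
        split_ifs at h3 with h'
        · simp only [M, if_neg (show ¬ a % 2 = 0 by omega)]; exact e'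
        · omega
    · exact Or.inl e
  have hUsub : U ⊆ body (fam (q ^ b)) ∪ (body (fam 4) ∪ body ((fam M).filter fun X => Nat.card X ≠ 4)) := by
    intro u hu
    obtain ⟨hu1, A, hA, huA⟩ := hU u hu
    obtain ⟨X, hX, hAX⟩ := exists_max hA fun e => hu1 (Subgroup.mem_bot.1 (e ▸ huA))
    simp only [body, fam, Finset.mem_union, Finset.mem_biUnion, Finset.mem_filter, Finset.mem_univ, true_and,
      Finset.mem_erase]
    rcases hkind X hX with e | e | e
    · exact Or.inl ⟨X, ⟨hX, e⟩, hu1, hAX huA⟩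
    · exact Or.inr (Or.inl ⟨X, ⟨hX, e⟩, hu1, hAX huA⟩)
    · exact Or.inr (Or.inr ⟨X, ⟨⟨hX, e.1⟩, e.2⟩, hu1, hAX huA⟩)
  have hG2 : Nat.card G = 2 ^ a * (9 * q ^ b) := by rw [hcard]; ring
  have hf2 : (Nat.card G).factorization 2 = a := by
    rw [hG2, Nat.factorization_mul (by positivity) (mul_ne_zero (by norm_num) (pow_ne_zero _ hq.ne_zero)),
      Finsupp.add_apply, Nat.prime_two.factorization_pow, Finsupp.single_eq_same,
      Nat.factorization_eq_zero_of_not_dvd (n := 9 * q ^ b), add_zero]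
    intro hd
    rcases Nat.prime_two.dvd_mul.1 hd with d | d
    · norm_num at d
    · exact hq2 ((Nat.prime_dvd_prime_iff_eq Nat.prime_two hq).1 (Nat.prime_two.dvd_of_dvd_pow d)).symm
  have hfq : (Nat.card G).factorization q = b := by
    rw [hcard, Nat.factorization_mul (by positivity) (pow_ne_zero _ hq.ne_zero), Finsupp.add_apply,
      hq.factorization_pow, Finsupp.single_eq_same, Nat.factorization_eq_zero_of_not_dvd, zero_add]
    intro hd
    rcases hq.dvd_mul.1 hd with d | d
    · exact hq3 ((Nat.prime_dvd_prime_iff_eq hq Nat.prime_three).1 (hq.dvd_of_dvd_pow (show q ∣ 3 ^ 2 from d)))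
    · exact hq2 ((Nat.prime_dvd_prime_iff_eq hq Nat.prime_two).1 (hq.dvd_of_dvd_pow d))
  have sylow_conj : ∀ (p : ℕ) (_ : Fact p.Prime) (S : Subgroup G), IsPGroup p S → ∀ (R : Sylow p G),
      ∃ g : G, cj g S ≤ R := by
    intro p _ S hS R
    obtain ⟨Q, hQ⟩ := hS.exists_le_sylow
    obtain ⟨g, hg⟩ := MulAction.exists_smul_eq G Q R
    exact ⟨g, by rw [← hg, Sylow.coe_subgroup_smul]; exact Subgroup.map_mono hQ⟩
  -- the odd prime
  have hQ : (body (fam (q ^ b))).card ≤ qBound q a b := by
    rcases (fam (q ^ b)).eq_empty_or_nonempty with e | ⟨X, hXm⟩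
    · simp [body, e]
    obtain ⟨hX, hXc⟩ := (Finset.mem_filter.1 hXm).2
    set R := Sylow.ofCard X (by rw [hfq, hXc]) with hR
    have hRX : (R : Subgroup G) = X := rfl
    have h3 : q ^ b % 3 = 1 := hXc ▸ h.card_mod_three hX.1
    have hn : Nat.card (Sylow q G) % q = 1 := by
      have := card_sylow_modEq_one q G
      rw [Nat.ModEq, Nat.one_mod_eq_one.2 hq.ne_one] at this
      exact this
    rw [Sylow.card_eq_index_normalizer R] at hn
    change (Subgroup.normalizer (X : Set G)).index % q = 1 at hn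
    have hcm := (Subgroup.normalizer (X : Set G)).card_mul_index
    have hcond : (3 * 2 ^ a) % q = 1 ∨ (3 * 2 ^ (a - 1)) % q = 1 := by
      have hqb : 0 < q ^ b := pow_pos hq.pos b
      rcases h.max_index hX with e | e <;> rw [e, hXc, hcard] at hcm
      · left
        rwa [Nat.eq_of_mul_eq_mul_left hqb (show q ^ b * (3 * 2 ^ a) =
          q ^ b * (Subgroup.normalizer (X : Set G)).index by linarith)]
      · right
        have e2 : 2 ^ a = 2 ^ (a - 1) * 2 := by rw [← pow_succ]; congr 1; omega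
        rw [e2] at hcm
        rwa [Nat.eq_of_mul_eq_mul_left hqb (show q ^ b * (3 * 2 ^ (a - 1)) =
          q ^ b * (Subgroup.normalizer (X : Set G)).index by linarith)]
    rw [qBound, if_pos ⟨h3, hcond⟩]
    refine hbody _ _ subset_rfl 6 (h.type_bound hX _ fun Y hY => ?_)
    obtain ⟨hYm, hYc⟩ := (Finset.mem_filter.1 hY).2
    refine ⟨hYm.1.1, ?_⟩
    obtain ⟨g, hg⟩ := sylow_conj q inferInstance X (IsPGroup.of_card hXc) (Sylow.ofCard Y (by rw [hfq, hYc]))
    exact ⟨g, Subgroup.eq_of_le_of_card_ge hg (by rw [card_cj, hXc]; exact (show Nat.card Y = q ^ b from hYc).le)⟩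
  obtain ⟨T⟩ : Nonempty (Sylow 2 G) := inferInstance
  have hT : Nat.card (T : Subgroup G) = 2 ^ a := by rw [T.card_eq_multiplicity, hf2]
  -- the large two-subgroups
  have hB : (body ((fam M).filter fun X => Nat.card X ≠ 4)).card ≤
      if a % 2 = 0 then 6 * (2 ^ a - 1) else 6 * (2 ^ (a - 1) - 1) := by
    have e : (if a % 2 = 0 then 6 * (2 ^ a - 1) else 6 * (2 ^ (a - 1) - 1)) = 6 * (M - 1) := by
      simp only [M]; split_ifs <;> rfl
    rw [e]
    refine hbody M _ (Finset.filter_subset _ _) 6 ?_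
    rcases ((fam M).filter fun (X : Subgroup G) => Nat.card X ≠ 4).eq_empty_or_nonempty with e | ⟨X, hXm⟩
    · rw [e]; simp
    obtain ⟨hXm', hX4⟩ := Finset.mem_filter.1 hXm
    obtain ⟨hX, hXc⟩ := (Finset.mem_filter.1 hXm').2
    have hMp : ∃ k, M = 2 ^ k := by simp only [M]; split_ifs <;> exact ⟨_, rfl⟩
    obtain ⟨k, hk⟩ := hMp
    refine h.type_bound hX _ fun Y hY => ?_
    obtain ⟨hYm', hY4⟩ := Finset.mem_filter.1 hY
    obtain ⟨hYm, hYc⟩ := (Finset.mem_filter.1 hYm').2
    refine ⟨hYm.1.1, ?_⟩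
    obtain ⟨g, hg⟩ := sylow_conj 2 inferInstance X (IsPGroup.of_card (hXc.trans hk)) T
    obtain ⟨g', hg'⟩ := sylow_conj 2 inferInstance Y (IsPGroup.of_card (hYc.trans hk)) T
    refine ⟨g'⁻¹ * g, ?_⟩
    suffices hgg : cj g X = cj g' Y by rw [← cj_cj, hgg, cj_cj, inv_mul_cancel, cj_one]
    by_cases hev : a % 2 = 0
    · have hM : M = 2 ^ a := if_pos hev
      rw [Subgroup.eq_of_le_of_card_ge hg (by rw [card_cj, hXc, hM]; exact hT.le),
        Subgroup.eq_of_le_of_card_ge hg' (by rw [card_cj, hYc, hM]; exact hT.le)]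
    · by_contra hne
      have hM : M * 2 = 2 ^ a := by
        rw [show M = 2 ^ (a - 1) from if_neg hev, ← pow_succ]
        congr 1; omega
      have := (h.of_conj g).pair_four (h.of_conj g') (hX.conj g) (hYm.conj g') T.isPGroup' hg hg'
        (by rw [card_cj, hXc, hT, ← hM, mul_comm]) (by rw [card_cj, hYc, hT, ← hM, mul_comm]) hne
      rw [card_cj] at this
      exact hX4 this
  -- the four-groups
  have hF : (body (fam 4)).card ≤ 54 := by
    suffices hc : (fam 4).card ≤ 18 from hbody 4 _ subset_rfl 18 hc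
    rcases (fam 4).eq_empty_or_nonempty with e | ⟨X0, hX0m⟩
    · rw [e]; simp
    have hrep : ∀ X ∈ fam 4, ∃ g : G, cj g X ≤ T ∧
        Nat.card (↥(T : Subgroup G) ⧸ commutator ↥(T : Subgroup G)) = 4 ∧
        ∃ v : ↥(T : Subgroup G), (v : G) ∈ cj g X ∧
          QuotientGroup.mk (s := commutator ↥(T : Subgroup G)) v ≠ QuotientGroup.mk 1 ∧
          v ∉ Subgroup.center ↥(T : Subgroup G) ∧
          (∀ z ∈ Subgroup.center ↥(T : Subgroup G), (z : G) ∈ cj g X) ∧
          Nat.card (Subgroup.center ↥(T : Subgroup G)) = 2 ∧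
          ∀ w, QuotientGroup.mk (s := commutator ↥(T : Subgroup G)) w = QuotientGroup.mk v → IsConj v w := by
      intro X hX
      obtain ⟨hXm, hXc⟩ := (Finset.mem_filter.1 hX).2
      obtain ⟨g, hg⟩ := sylow_conj 2 inferInstance X (IsPGroup.of_card (n := 2) hXc) T
      exact ⟨g, hg, (h.of_conj g).four_code ha hT (hXm.conj g) hg (by rw [card_cj, hXc])⟩
    choose g hg h4 v hv hv1 hvZ hz hZ2 hvc using hrep
    haveI : Fintype (↥(T : Subgroup G) ⧸ commutator ↥(T : Subgroup G)) := Fintype.ofFinite _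
    let code : {X // X ∈ fam 4} → ↥(T : Subgroup G) ⧸ commutator ↥(T : Subgroup G) :=
      fun X => QuotientGroup.mk (v X.1 X.2)
    have himg : ((fam 4).attach.image code).card ≤ 3 := by
      refine (Finset.card_le_card (t := Finset.univ.erase (QuotientGroup.mk 1)) fun c hc => ?_).trans ?_
      · obtain ⟨X, -, rfl⟩ := Finset.mem_image.1 hc
        exact Finset.mem_erase.2 ⟨hv1 X.1 X.2, Finset.mem_univ _⟩
      · rw [Finset.card_erase_of_mem (Finset.mem_univ _), Finset.card_univ, ← Nat.card_eq_fintype_card,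
          h4 X0 hX0m]
    have hfib : ∀ c ∈ (fam 4).attach.image code, ((fam 4).attach.filter fun X => code X = c).card ≤ 6 := by
      intro c hc
      obtain ⟨X, -, rfl⟩ := Finset.mem_image.1 hc
      obtain ⟨hXm, hXc⟩ := (Finset.mem_filter.1 X.2).2
      rw [← Finset.card_map (Function.Embedding.subtype fun X => X ∈ fam 4)]
      refine h.type_bound hXm _ fun Y hY => ?_
      obtain ⟨⟨Y', hY'⟩, hYf, rfl⟩ := Finset.mem_map.1 hY
      obtain ⟨hYm, hYc⟩ := (Finset.mem_filter.1 hY').2
      refine ⟨hYm.1.1, ?_⟩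
      obtain ⟨t, ht⟩ := isConj_iff.1 (hvc X.1 X.2 (v Y' hY') (Finset.mem_filter.1 hYf).2)
      show ∃ k, cj k X.1 = Y'
      suffices hgg : cj ((t : G) * g X.1 X.2) X.1 = cj (g Y' hY') Y' from
        ⟨(g Y' hY')⁻¹ * ((t : G) * g X.1 X.2), by rw [← cj_cj, hgg, cj_cj, inv_mul_cancel, cj_one]⟩
      rw [← cj_cj]
      set A := cj (g X.1 X.2) X.1 with hA
      set B := cj (g Y' hY') Y' with hB'
      have hAc : Nat.card (cj (t : G) A) = 4 := by rw [card_cj, hA, card_cj, hXc]
      have hBc : Nat.card B = 4 := by rw [hB', card_cj, hYc]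
      set Z' : Subgroup G := (Subgroup.center ↥(T : Subgroup G)).map (T : Subgroup G).subtype with hZ'
      have hZc : Nat.card Z' = 2 := by
        rw [hZ', Subgroup.card_map_of_injective (Subgroup.subtype_injective _), hZ2 X.1 X.2]
      have m1 : Z' ≤ cj (t : G) A ⊓ B := by
        rintro _ ⟨z, hz', rfl⟩
        refine ⟨mem_cj.2 ?_, hz Y' hY' z hz'⟩
        have := Subgroup.mem_center_iff.1 hz' t
        have e : (t : G)⁻¹ * (z : G) * (t : G) = z := by
          have h' : (t : G) * z = z * t := congrArg Subtype.val this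
          rw [mul_assoc, ← h', inv_mul_cancel_left]
        show (t : G)⁻¹ * (z : G) * (t : G) ∈ A
        rw [e]
        exact hz X.1 X.2 z hz'
      have m2 : (v Y' hY' : G) ∈ cj (t : G) A ⊓ B := by
        refine ⟨mem_cj.2 ?_, hv Y' hY'⟩
        have e : (t : G)⁻¹ * (v Y' hY' : G) * (t : G) = v X.1 X.2 := by
          rw [← ht]
          simp [mul_assoc]
        rw [e]
        exact hv X.1 X.2
      have hlt : 2 < Nat.card (cj (t : G) A ⊓ B : Subgroup G) := by
        rcases (Subgroup.card_le_of_le m1).lt_or_eq with e | e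
        · omega
        · exfalso
          rw [← Subgroup.eq_of_le_of_card_ge m1 e.ge, hZ'] at m2
          obtain ⟨z, hz', e'⟩ := m2
          exact hvZ Y' hY' (Subtype.ext e' ▸ hz')
      have hd1 := Subgroup.card_dvd_of_le (inf_le_left : cj (t : G) A ⊓ B ≤ cj (t : G) A)
      rw [hAc] at hd1
      have h4' : Nat.card (cj (t : G) A ⊓ B : Subgroup G) = 4 := by
        have := Nat.le_of_dvd (by norm_num) hd1
        interval_cases hk : Nat.card (cj (t : G) A ⊓ B : Subgroup G) <;> omega
      rw [← Subgroup.eq_of_le_of_card_ge (inf_le_left : cj (t : G) A ⊓ B ≤ _) (by rw [h4', hAc]),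
        Subgroup.eq_of_le_of_card_ge (inf_le_right : cj (t : G) A ⊓ B ≤ _) (by rw [h4', hBc])]
    have := Finset.card_le_mul_card_image (fam 4).attach 6 hfib
    rw [Finset.card_attach] at this
    omega
  refine (Finset.card_le_card hUsub).trans ((Finset.card_union_le _ _).trans ?_)
  have := Finset.card_union_le (body (fam 4)) (body ((fam M).filter fun X => Nat.card X ≠ 4))
  unfold twoBound
  omega

end Cfsg.Agent.Char.OrderNine.OneClass
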