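import Mathlib
import Cfsg.Agent.Lib.Char.OrderNine.OneClass.Bound

/-!
# The arithmetic of the one-class case
-/

set_option autoImplicit false

namespace Cfsg.Agent.Char.OrderNine.OneClass

/-- Is the exponent triple excluded? -/
def excluded (q a b : ℕ) : Bool :=
  !((2 ^ a * q ^ b % 9 == 8) && Nat.ble (2 ^ a) (20 * q ^ b) && Nat.ble (q ^ b) (20 * 2 ^ a) &&
    Nat.ble (2 ^ a * q ^ b) (72 * (7 + (qBound q a b + twoBound a))) &&
    (List.range b).any fun i => (q ^ (i + 1) % 9 == 1 || q ^ (i + 1) % 9 == 8) &&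
      Nat.blt (q ^ (2 * (i + 1))) (9 * (2 ^ a * q ^ b))) ||
    (q % 3 == 0) || (q == 5 && b == 3 && a == 6)

set_option maxRecDepth 100000 in
theorem excluded_all : ((List.range 12).all fun i => (List.range 5).all fun j => (List.range 91).all fun k =>
    excluded (2 * k + 5) (i + 3) (j + 2)) = true := by
  decide +kernel

/-- Only one exponent triple is left. -/
theorem arith_case {q a b : ℕ} (hq : q.Prime) (hq2 : q ≠ 2) (hq3 : q ≠ 3) (ha : 3 ≤ a) (hb : 2 ≤ b)
    (hmod : 2 ^ a * q ^ b % 9 = 8) (h1 : 2 ^ a ≤ 20 * q ^ b) (h2 : q ^ b ≤ 20 * 2 ^ a)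
    (hcount : 2 ^ a * q ^ b ≤ 72 * (7 + (qBound q a b + twoBound a)))
    (hl : ∃ l, 1 ≤ l ∧ l ≤ b ∧ (q ^ l % 9 = 1 ∨ q ^ l % 9 = 8) ∧ q ^ (2 * l) < 9 * (2 ^ a * q ^ b)) :
    q = 5 ∧ b = 3 ∧ a = 6 := by
  have hq5 : 5 ≤ q := by
    by_contra hlt
    have := hq.two_le
    have h4 : q = 4 := by omega
    rw [h4] at hq
    norm_num at hq
  have hodd : q % 2 = 1 := hq.eq_two_or_odd.resolve_left hq2
  have hqB : qBound q a b ≤ 6 * q ^ b := by unfold qBound; split_ifs <;> omega
  have htB : twoBound a ≤ 54 + 6 * 2 ^ a := by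
    have : 2 ^ (a - 1) ≤ 2 ^ a := Nat.pow_le_pow_right two_pos (Nat.sub_le a 1)
    unfold twoBound; split_ifs <;> omega
  set T := 2 ^ a with hT
  set Q := q ^ b with hQ
  have hle : T * Q ≤ 4392 + 432 * Q + 432 * T := by omega
  have hT' : T < 32768 := by
    by_contra hge
    push Not at hge
    have h1638 : 1638 ≤ Q := by omega
    nlinarith [Nat.mul_le_mul hge h1638]
  have hQ' : Q < 32768 := by
    by_contra hge
    push Not at hge
    have h1638 : 1638 ≤ T := by omega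
    nlinarith [Nat.mul_le_mul hge h1638]
  have ha14 : a ≤ 14 := by
    by_contra hge
    have : 2 ^ 15 ≤ T := Nat.pow_le_pow_right two_pos (by omega)
    omega
  have hb6 : b ≤ 6 := by
    by_contra hge
    have h7 : 5 ^ 7 ≤ Q := (Nat.pow_le_pow_left hq5 7).trans (Nat.pow_le_pow_right (by omega) (by omega))
    omega
  have hq181 : q ≤ 185 := by
    by_contra hge
    have h2' : q ^ 2 ≤ Q := Nat.pow_le_pow_right (by omega) hb
    nlinarith
  have hk : q = 2 * ((q - 5) / 2) + 5 := by omega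
  have h := List.all_eq_true.1 (List.all_eq_true.1 (List.all_eq_true.1 excluded_all (a - 3)
    (List.mem_range.2 (by omega))) (b - 2) (List.mem_range.2 (by omega))) ((q - 5) / 2)
    (List.mem_range.2 (by omega))
  rw [← hk, show a - 3 + 3 = a by omega, show b - 2 + 2 = b by omega] at h
  obtain ⟨l, hl1, hlb, hl9, hll⟩ := hl
  have hany : ((List.range b).any fun i => (q ^ (i + 1) % 9 == 1 || q ^ (i + 1) % 9 == 8) &&
      Nat.blt (q ^ (2 * (i + 1))) (9 * (T * Q))) = true := by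
    refine List.any_eq_true.2 ⟨l - 1, List.mem_range.2 (by omega), ?_⟩
    rw [show l - 1 + 1 = l by omega]
    rcases hl9 with e | e <;> simp [e, Nat.blt_eq, hll]
  have hq3' : q % 3 ≠ 0 := fun e => hq3 ((Nat.prime_dvd_prime_iff_eq Nat.prime_three hq).1
    (Nat.dvd_of_mod_eq_zero e)).symm
  have e1 : Nat.ble T (20 * Q) = true := by rw [Nat.ble_eq]; exact h1
  have e2 : Nat.ble Q (20 * T) = true := by rw [Nat.ble_eq]; exact h2
  have e3 : Nat.ble (T * Q) (72 * (7 + (qBound q a b + twoBound a))) = true := by rw [Nat.ble_eq]; exact hcount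
  simp only [excluded, ← hT, ← hQ, hmod, hany, e1, e2, e3,
    beq_self_eq_true, Bool.and_true, Bool.not_true, Bool.false_or, Bool.or_eq_true, beq_iff_eq,
    Bool.and_eq_true] at h
  rcases h with h | h
  · exact absurd h hq3'
  · exact ⟨h.1.1, h.1.2, h.2⟩

/-- Is the degree a power of two? -/
def isTwo (x : ℕ) : Bool := x == 2 || x == 8 || x == 16 || x == 64

/-- The possible pairs of value and degree for the order `72000`. -/
def pairs : List (ℤ × ℕ) :=
  [(2, 2), (2, 20), (2, 200), (-2, 16), (-2, 25), (-2, 160), (-2, 250),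
    (1, 10), (1, 64), (1, 100), (-1, 8), (-1, 80), (-1, 125)]

/-- Search through the multiplicities. -/
def kill : List (ℤ × ℕ) → ℕ → ℤ → ℤ → List ℤ → Bool
  | [], w, s, S, B => !((w == 0) && (s == 0) && decide (S ≤ 3951)) || B.all (fun t => !(t % 64 == 0))
  | (c, x) :: L, w, s, S, B => (List.range (w / c.natAbs ^ 2 + 1)).all fun n =>
      kill L (w - n * c.natAbs ^ 2) (s + n * (c * x)) (S + n * (c ^ 3 * ((8000 / x : ℕ) : ℤ)))
        (if isTwo x then B else (List.range (n + 1)).flatMap fun (m : ℕ) => B.map fun t => t + (m : ℤ) * (c * x))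

set_option maxRecDepth 100000 in
theorem kill_pairs : kill pairs 8 1 8000 [1] = true := by decide +kernel

theorem kill_sound (n m : ℤ × ℕ → ℕ) (hmn : ∀ p, m p ≤ n p) (hm2 : ∀ p : ℤ × ℕ, isTwo p.2 = true → m p = 0) :
    ∀ (L : List (ℤ × ℕ)) (w : ℕ) (s S t : ℤ) (B : List ℤ), (∀ p ∈ L, p.1 ≠ 0) → kill L w s S B = true →
      t ∈ B → w = (L.map fun p => n p * p.1.natAbs ^ 2).sum →
      s + (L.map fun p => (n p : ℤ) * (p.1 * p.2)).sum = 0 →
      S + (L.map fun p => (n p : ℤ) * (p.1 ^ 3 * ((8000 / p.2 : ℕ) : ℤ))).sum ≤ 3951 →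
      (t + (L.map fun p => (m p : ℤ) * (p.1 * p.2)).sum) % 64 ≠ 0 := by
  intro L
  induction L with
  | nil =>
    intro w s S t B _ h ht hw hs hS
    simp only [List.map_nil, List.sum_nil, add_zero] at hw hs hS ⊢
    simp only [kill, hw, hs, decide_eq_true hS, beq_self_eq_true, Bool.and_true, Bool.not_true, Bool.false_or,
      List.all_eq_true, Bool.not_eq_true', beq_eq_false_iff_ne] at h
    exact h t ht
  | cons p L ih =>
    obtain ⟨c, x⟩ := p
    intro w s S t B h0 h ht hw hs hS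
    simp only [List.map_cons, List.sum_cons] at hw hs hS ⊢
    have hc : 0 < c.natAbs ^ 2 := pow_pos (Int.natAbs_pos.2 (h0 _ (List.mem_cons_self ..))) 2
    simp only [kill, List.all_eq_true, List.mem_range] at h
    have hn : n (c, x) < w / c.natAbs ^ 2 + 1 := by
      rw [Nat.lt_succ_iff, Nat.le_div_iff_mul_le hc, hw]
      exact Nat.le_add_right _ _
    rw [← add_assoc] at hs hS
    rw [← add_assoc]
    refine ih _ _ _ (t + (m (c, x) : ℤ) * (c * x)) _ (fun p hp => h0 p (List.mem_cons_of_mem _ hp)) (h _ hn) ?_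
      (by rw [hw]; simp) hs hS
    split_ifs with h2
    · rw [hm2 (c, x) h2]
      simpa using ht
    · rw [List.mem_flatMap]
      exact ⟨m (c, x), List.mem_range.2 (Nat.lt_succ_of_le (hmn _)), List.mem_map.2 ⟨t, ht, rfl⟩⟩

set_option maxRecDepth 100000 in
theorem allowed : ∀ x : Fin 269, ∀ c ∈ ([-2, -1, 1, 2] : List ℤ), 2 ≤ (x : ℕ) → 8000 % (x : ℕ) = 0 →
    ((x : ℕ) - c : ℤ) % 9 = 0 → 0 ≤ ((x : ℕ) : ℤ) + 8 * c → (c, (x : ℕ)) ∈ pairs := by
  decide +kernel

end Cfsg.Agent.Char.OrderNine.OneClass
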