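import Cfsg.Agent.Lib.Char.OrderNine.OneClass.TwoMax
import Cfsg.Agent.Lib.Char.Central
import Cfsg.Agent.Lib.Solv.PGroupPhi
import Cfsg.Agent.Lib.Lead.Ward

/-!
# The conjugacy types of maximal invariant subgroups, and how many there are
-/

set_option autoImplicit false
set_option linter.unusedSectionVars false
set_option linter.style.haveILetI false

namespace Cfsg.Agent.Char.OrderNine.OneClass

universe u

variable {G : Type u} [Group G] [Fintype G] {y : G}

/-- Conjugation. -/
abbrev cj (g : G) (X : Subgroup G) : Subgroup G := X.map (MulAut.conj g).toMonoidHom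

theorem mem_cj {g : G} {X : Subgroup G} {x : G} : x ∈ cj g X ↔ g⁻¹ * x * g ∈ X := by
  constructor
  · rintro ⟨d, hd, rfl⟩
    simpa [mul_assoc] using hd
  · exact fun h => ⟨_, h, by simp [mul_assoc]⟩

theorem card_cj (g : G) (X : Subgroup G) : Nat.card (cj g X) = Nat.card X :=
  Subgroup.card_map_of_injective (MulEquiv.injective _)

theorem cj_cj (g k : G) (X : Subgroup G) : cj g (cj k X) = cj (g * k) X := by
  ext x
  rw [mem_cj, mem_cj, mem_cj]
  rw [show k⁻¹ * (g⁻¹ * x * g) * k = (g * k)⁻¹ * x * (g * k) by group]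

theorem cj_one (X : Subgroup G) : cj (1 : G) X = X := by ext x; simp [mem_cj]

theorem mem_normalizer_cj {g w : G} {X : Subgroup G} :
    w ∈ Subgroup.normalizer (cj g X : Set G) ↔ g⁻¹ * w * g ∈ Subgroup.normalizer (X : Set G) := by
  rw [Subgroup.mem_normalizer_iff, Subgroup.mem_normalizer_iff]
  simp only [SetLike.mem_coe, mem_cj]
  constructor
  · intro h x
    have := h (g * x * g⁻¹)
    simpa [mul_assoc] using this
  · intro h x
    rw [h]
    simp [mul_assoc]

theorem IsMaxInv.conj {X : Subgroup G} (hX : IsMaxInv y X) (g : G) :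
    IsMaxInv (g * y * g⁻¹) (cj g X) := by
  refine ⟨⟨mem_normalizer_cj.2 (by simpa [mul_assoc] using hX.1.1), by rw [card_cj]; exact hX.1.2⟩,
    fun e => hX.2.1 ?_, fun Y hY hXY => ?_⟩
  · exact Subgroup.eq_bot_of_card_eq _ (by rw [← card_cj g, e, Subgroup.card_bot])
  · have h1 : Inv y (cj g⁻¹ Y) :=
      ⟨mem_normalizer_cj.2 (by simpa [mul_assoc] using hY.1), by rw [card_cj]; exact hY.2⟩
    have h2 := hX.2.2 _ h1 fun x hx => mem_cj.2 (by
      simpa using hXY (mem_cj.2 (show g⁻¹ * (g * x * g⁻¹) * g ∈ X by simpa [mul_assoc] using hx)))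
    rw [← h2, cj_cj, mul_inv_cancel, cj_one]

/-- The order of a `p`-subgroup whose normaliser contributes no more. -/
theorem full_exp {p : ℕ} [Fact p.Prime] {X : Subgroup G} {n : ℕ} (hX : Nat.card X = p ^ n)
    (hN : ¬ p ^ (n + 1) ∣ Nat.card (Subgroup.normalizer (X : Set G))) {e m : ℕ}
    (hG : Nat.card G = p ^ e * m) (hm : ¬ p ∣ m) : n = e := by
  have hp : p.Prime := Fact.out
  have h1 : p ^ n ∣ p ^ e :=
    ((hp.coprime_iff_not_dvd.2 hm).pow_left n).dvd_of_dvd_mul_right (hG ▸ hX ▸ X.card_subgroup_dvd_card)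
  have hle : n ≤ e := (Nat.pow_dvd_pow_iff_le_right hp.one_lt).1 h1
  by_contra hne
  exact hN (Sylow.prime_pow_dvd_card_normalizer
    (hG ▸ (pow_dvd_pow p (by omega : n + 1 ≤ e)).trans (dvd_mul_right _ m)) hX)

section Facts

variable [IsSimpleGroup G] {q a b : ℕ}

theorem prime_dvd_cases (hq : q.Prime) (hcard : Nat.card G = 9 * 2 ^ a * q ^ b) {X : Subgroup G}
    (h3 : ¬ 3 ∣ Nat.card X) : ∃ i j, Nat.card X = 2 ^ i * q ^ j := by
  have h1 : Nat.card X ∣ 2 ^ a * q ^ b := by
    refine Nat.Coprime.dvd_of_dvd_mul_left (?_ : Nat.Coprime (Nat.card X) 9) (by rw [← mul_assoc, ← hcard]; exact X.card_subgroup_dvd_card)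
    rw [show (9 : ℕ) = 3 ^ 2 from rfl]
    exact ((Nat.prime_three.coprime_iff_not_dvd.2 h3).symm).pow_right 2
  obtain ⟨d1, d2, hd1, hd2, he⟩ := exists_dvd_and_dvd_of_dvd_mul h1
  obtain ⟨i, -, rfl⟩ := (Nat.dvd_prime_pow Nat.prime_two).1 hd1
  obtain ⟨j, -, rfl⟩ := (Nat.dvd_prime_pow hq).1 hd2
  exact ⟨i, j, he⟩

/-- A maximal invariant subgroup is a two-group or a Sylow subgroup for `q`. -/
theorem Hyp.pure (h : Hyp y) (hq : q.Prime) (hq2 : q ≠ 2) (hq3 : q ≠ 3)
    (hcard : Nat.card G = 9 * 2 ^ a * q ^ b)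
    (hburn : ∀ u : G, orderOf u = 2 → ∀ S : Subgroup G, Nat.card S = q ^ b → ∃ s ∈ S, u * s ≠ s * u)
    {X : Subgroup G} (hX : IsMaxInv y X) : (∃ i, Nat.card X = 2 ^ i) ∨ Nat.card X = q ^ b := by
  haveI := Fact.mk hq
  haveI : Fact (Nat.Prime 2) := ⟨Nat.prime_two⟩
  obtain ⟨i, j, hij⟩ := prime_dvd_cases hq hcard hX.1.2
  rcases Nat.eq_zero_or_pos j with rfl | hj
  · exact Or.inl ⟨i, by rw [hij, pow_zero, mul_one]⟩
  right
  have hq5 : 5 ≤ q := by
    rcases hq.eq_two_or_odd with e | e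
    · exact absurd e hq2
    · have := hq.two_le
      by_contra hlt
      interval_cases q <;> simp_all
  haveI := h.nilpotent hX.1
  set N := Subgroup.normalizer (X : Set G) with hN
  obtain ⟨P⟩ : Nonempty (Sylow q X) := inferInstance
  haveI hPn : (P : Subgroup X).Normal :=
    ((Group.isNilpotent_of_finite_tfae (G := X)).out 0 3
      (a := Group.IsNilpotent X)
      (b := ∀ (r : ℕ) (_ : Fact r.Prime) (R : Sylow r X), (R : Subgroup X).Normal)).1 inferInstance q ‹_› P
  letI := Sylow.unique_of_normal P hPn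
  set S : Subgroup G := (P : Subgroup X).map X.subtype with hS
  have hScard : Nat.card S = q ^ j := by
    rw [hS, Subgroup.card_map_of_injective X.subtype_injective]
    rw [Sylow.card_eq_multiplicity, hij, Nat.factorization_mul (by positivity) (pow_ne_zero _ hq.ne_zero),
      Finsupp.add_apply, hq.factorization_pow, Finsupp.single_eq_same,
      Nat.factorization_eq_zero_of_not_dvd, zero_add]
    exact fun hd => hq2 ((Nat.prime_dvd_prime_iff_eq hq Nat.prime_two).1 (hq.dvd_of_dvd_pow hd))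
  have hSX : S ≤ X := Subgroup.map_subtype_le _
  have hmemS : ∀ x ∈ X, (∃ k, orderOf x = q ^ k) → x ∈ S := by
    intro x hx ⟨k, hk⟩
    obtain ⟨Q, hQ⟩ := (IsPGroup.of_card (p := q) (n := k)
      (by rw [Nat.card_zpowers, Subgroup.orderOf_mk, hk]) : IsPGroup q (Subgroup.zpowers (⟨x, hx⟩ : X))).exists_le_sylow
    rw [Subsingleton.elim Q P] at hQ
    exact ⟨⟨x, hx⟩, hQ (Subgroup.mem_zpowers _), rfl⟩
  have hSq : ∀ s ∈ S, ∃ k, orderOf s = q ^ k := fun s hs => by
    obtain ⟨k, -, hk⟩ := (Nat.dvd_prime_pow hq).1 (hScard ▸ Subgroup.orderOf_dvd_natCard S hs)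
    exact ⟨k, hk⟩
  have hNS : N ≤ Subgroup.normalizer (S : Set G) := fun g hg => by
    refine Solv.mem_normalizer_of_map_conj ?_
    refine Subgroup.eq_of_le_of_card_ge ?_ (le_of_eq (Subgroup.card_map_of_injective (MulEquiv.injective _)).symm)
    rintro _ ⟨s, hs, rfl⟩
    obtain ⟨k, hk⟩ := hSq s hs
    exact hmemS _ (conj_mem hg (hSX hs)) ⟨k, by rw [← hk]; exact orderOf_injective _ (MulEquiv.injective _) s⟩
  obtain ⟨s0, hs0, hs01⟩ : ∃ s ∈ S, s ≠ 1 := by
    by_contra hno
    push Not at hno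
    rw [(Subgroup.eq_bot_iff_forall S).2 hno, Subgroup.card_bot] at hScard
    exact absurd (hScard.symm ▸ Nat.one_lt_pow hj.ne' hq.one_lt : (1 : ℕ) < 1) (lt_irrefl 1)
  set C := Subgroup.centralizer (S : Set G) with hC
  have hNC : N ≤ Subgroup.normalizer (C : Set G) := fun g hg => by
    refine Solv.mem_normalizer_of_map_conj ?_
    refine Subgroup.eq_of_le_of_card_ge ?_ (le_of_eq (Subgroup.card_map_of_injective (MulEquiv.injective _)).symm)
    rintro _ ⟨c, hc, rfl⟩
    rw [hC, Subgroup.mem_centralizer_iff]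
    intro s hs
    have h1 : g⁻¹ * s * g ∈ S := by simpa using conj_mem (inv_mem (hNS hg)) hs
    have h2 := hc _ h1
    show s * (g * c * g⁻¹) = g * c * g⁻¹ * s
    calc s * (g * c * g⁻¹) = g * (g⁻¹ * s * g * c) * g⁻¹ := by group
      _ = g * (c * (g⁻¹ * s * g)) * g⁻¹ := by rw [h2]
      _ = _ := by group
  have hC3 : ¬ 3 ∣ Nat.card C := by
    intro hd
    haveI : Fact (Nat.Prime 3) := ⟨Nat.prime_three⟩
    obtain ⟨⟨w, hwC⟩, hw⟩ := exists_prime_orderOf_dvd_card' 3 hd
    rw [Subgroup.orderOf_mk] at hw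
    refine hs01 (h.eq_one_of_commute hX.1.2 (hSX hs0) (w := w) (by rw [← hw]; exact pow_orderOf_eq_one w)
      (fun e => by rw [e, orderOf_one] at hw; norm_num at hw) (hwC s0 hs0))
  have hinvC : Inv y C := ⟨hNC hX.1.1, hC3⟩
  have hCX : C ≤ X :=
    le_sup_left.trans (hX.2.2 _ (hinvC.sup hX.1 (Subgroup.le_normalizer.trans hNC)) le_sup_right).le
  -- the two parts commute
  have hcomm : ∀ x ∈ X, (orderOf x).Coprime q → ∀ s ∈ S, s * x = x * s := fun x hx hx2 s hs => by
    obtain ⟨k, hk⟩ := hSq s hs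
    exact Lead.Ward.commute_of_nilpotent X (h.nilpotent hX.1) (hSX hs) hx hk hx2
  obtain ⟨P2⟩ : Nonempty (Sylow 2 X) := inferInstance
  set S2 : Subgroup G := (P2 : Subgroup X).map X.subtype with hS2
  have hS2card : Nat.card S2 = 2 ^ i := by
    rw [hS2, Subgroup.card_map_of_injective X.subtype_injective]
    rw [Sylow.card_eq_multiplicity, hij, Nat.factorization_mul (by positivity) (pow_ne_zero _ hq.ne_zero),
      Finsupp.add_apply, Nat.prime_two.factorization_pow, Finsupp.single_eq_same,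
      Nat.factorization_eq_zero_of_not_dvd (n := q ^ j), add_zero]
    exact fun hd => hq2 ((Nat.prime_dvd_prime_iff_eq Nat.prime_two hq).1 (Nat.prime_two.dvd_of_dvd_pow hd)).symm
  have hS2C : S2 ≤ C := fun x hx => by
    rw [hC, Subgroup.mem_centralizer_iff]
    refine hcomm x (Subgroup.map_subtype_le _ hx) ?_
    obtain ⟨k, -, hk⟩ := (Nat.dvd_prime_pow Nat.prime_two).1 (hS2card ▸ Subgroup.orderOf_dvd_natCard S2 hx)
    rw [hk]
    exact ((Nat.coprime_primes Nat.prime_two hq).2 hq2.symm).pow_left k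
  have hXeq : X = S ⊔ C := by
    refine (Subgroup.eq_of_le_of_card_ge (sup_le hSX hCX) (Nat.le_of_dvd Nat.card_pos ?_)).symm
    rw [hij]
    exact Nat.Coprime.mul_dvd_of_dvd_of_dvd (((Nat.coprime_primes Nat.prime_two hq).2 hq2.symm).pow i j)
      (hS2card ▸ Subgroup.card_dvd_of_le (hS2C.trans le_sup_right))
      (hScard ▸ Subgroup.card_dvd_of_le le_sup_left)
  have hSN : Subgroup.normalizer (S : Set G) ≤ N := fun g hg => by
    have hgC : g ∈ Subgroup.normalizer (C : Set G) := by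
      refine Solv.mem_normalizer_of_map_conj ?_
      refine Subgroup.eq_of_le_of_card_ge ?_ (le_of_eq (Subgroup.card_map_of_injective (MulEquiv.injective _)).symm)
      rintro _ ⟨c, hc, rfl⟩
      rw [hC, Subgroup.mem_centralizer_iff]
      intro s hs
      have h1 : g⁻¹ * s * g ∈ S := by simpa using conj_mem (inv_mem hg) hs
      have h2 := hc _ h1
      show s * (g * c * g⁻¹) = g * c * g⁻¹ * s
      calc s * (g * c * g⁻¹) = g * (g⁻¹ * s * g * c) * g⁻¹ := by group
        _ = g * (c * (g⁻¹ * s * g)) * g⁻¹ := by rw [h2]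
        _ = _ := by group
    rw [hN, hXeq]
    exact mem_normalizer_sup hg hgC
  have hjb : j = b := by
    refine full_exp hScard (fun hd => ?_) (show Nat.card G = q ^ b * (9 * 2 ^ a) by rw [hcard]; ring) fun hd => ?_
    · have h1 := hd.trans (Subgroup.card_dvd_of_le hSN)
      have h6 : Nat.card N ∣ 6 * (2 ^ i * q ^ j) := by
        rcases h.max_index hX with e | e <;> rw [hN, e, hij]
        exact mul_dvd_mul_right ⟨2, rfl⟩ _
      have h2 : q ^ j * q ∣ q ^ j * (6 * 2 ^ i) := by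
        rw [← pow_succ]
        exact (h1.trans h6).trans ⟨1, by ring⟩
      rcases hq.dvd_mul.1 (Nat.dvd_of_mul_dvd_mul_left (pow_pos hq.pos j) h2) with d | d
      · rcases hq.dvd_mul.1 (show q ∣ 2 * 3 from d) with d' | d'
        · exact hq2 ((Nat.prime_dvd_prime_iff_eq hq Nat.prime_two).1 d')
        · exact hq3 ((Nat.prime_dvd_prime_iff_eq hq Nat.prime_three).1 d')
      · exact hq2 ((Nat.prime_dvd_prime_iff_eq hq Nat.prime_two).1 (hq.dvd_of_dvd_pow d))
    · rcases hq.dvd_mul.1 hd with d | d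
      · exact hq3 ((Nat.prime_dvd_prime_iff_eq hq Nat.prime_three).1 (hq.dvd_of_dvd_pow (show q ∣ 3 ^ 2 from d)))
      · exact hq2 ((Nat.prime_dvd_prime_iff_eq hq Nat.prime_two).1 (hq.dvd_of_dvd_pow d))
  rw [hjb] at hij hScard
  rcases Nat.eq_zero_or_pos i with rfl | hi
  · rw [hij, pow_zero, one_mul]
  exfalso
  obtain ⟨⟨u, huX⟩, hu⟩ := exists_prime_orderOf_dvd_card' (G := X) 2
    (hij ▸ (dvd_pow_self 2 hi.ne').trans (dvd_mul_right _ _))
  rw [Subgroup.orderOf_mk] at hu
  obtain ⟨s, hs, hne⟩ := hburn u hu S hScard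
  exact hne (hcomm u huX (hu ▸ (Nat.coprime_primes Nat.prime_two hq).2 hq2.symm) s hs).symm

/-- The possible orders of a maximal invariant two-subgroup. -/
theorem Hyp.two_size (h : Hyp y) (hq : q.Prime) (hq2 : q ≠ 2)
    (hcard : Nat.card G = 9 * 2 ^ a * q ^ b)
    {X : Subgroup G} (hX : IsMaxInv y X) {n : ℕ} (hn : Nat.card X = 2 ^ n) :
    Nat.card X = 4 ∨ Nat.card X = 2 ^ a ∨ Nat.card X * 2 = 2 ^ a := by
  haveI : Fact (Nat.Prime 2) := ⟨Nat.prime_two⟩
  have hG : Nat.card G = 2 ^ a * (9 * q ^ b) := by rw [hcard]; ring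
  have hm : ¬ 2 ∣ 9 * q ^ b := fun hd => by
    rcases Nat.prime_two.dvd_mul.1 hd with d | d
    · norm_num at d
    · exact hq2 ((Nat.prime_dvd_prime_iff_eq Nat.prime_two hq).1 (Nat.prime_two.dvd_of_dvd_pow d)).symm
  set N := Subgroup.normalizer (X : Set G) with hN
  rcases h.max_index hX with e | e
  · right; left
    rw [hn, full_exp hn (fun hd => ?_) hG hm]
    rw [e, hn, pow_succ, mul_comm 3] at hd
    exact absurd (Nat.dvd_of_mul_dvd_mul_left (pow_pos two_pos n) hd) (by norm_num)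
  have hd1 : 2 ^ (n + 1) ∣ Nat.card G := by
    refine dvd_trans ?_ N.card_subgroup_dvd_card
    rw [e, hn, pow_succ]
    exact ⟨3, by ring⟩
  obtain ⟨K, hK, hXK⟩ := Sylow.exists_subgroup_card_pow_succ hd1 hn
  have hK2 : Nat.card K = 2 * Nat.card X := by rw [hK, hn, pow_succ, mul_comm]
  have hKN : K ≤ N := two_le_normalizer hXK hK2
  by_cases hfull : 2 ^ (n + 2) ∣ Nat.card G
  swap
  · right; right
    have h1 : n + 1 ≤ a := (Nat.pow_dvd_pow_iff_le_right (by norm_num)).1
      (((Nat.prime_two.coprime_iff_not_dvd.2 hm).pow_left (n + 1)).dvd_of_dvd_mul_right (hG ▸ hd1))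
    have h2 : ¬ n + 2 ≤ a := fun h' => hfull (hG ▸ (pow_dvd_pow 2 h').trans (dvd_mul_right _ _))
    rw [hn, ← pow_succ, show n + 1 = a by omega]
  left
  obtain ⟨T, hT, hKT⟩ := Sylow.exists_subgroup_card_pow_succ (p := 2) (n := n + 1) hfull hK
  have hTK : T ≤ Subgroup.normalizer (K : Set G) := two_le_normalizer hKT (by rw [hT, hK, pow_succ _ (n + 1), mul_comm])
  obtain ⟨t, htT, htN⟩ : ∃ t ∈ T, t ∉ N := by
    by_contra hno
    push Not at hno
    have h1 := Subgroup.card_dvd_of_le (show T ≤ N from hno)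
    rw [hT, e, hn, pow_succ, pow_succ, mul_assoc, mul_comm 6] at h1
    exact absurd (Nat.dvd_of_mul_dvd_mul_left (pow_pos two_pos n) h1) (by norm_num)
  refine h.pair_four (h.of_conj t) hX (hX.conj t) (IsPGroup.of_card hK) hXK (fun x hx => ?_) hK2
    (by rw [hK2, card_cj]) fun e' => htN ?_
  · have h1 : t⁻¹ * x * t ∈ K := hXK (mem_cj.1 hx)
    simpa [mul_assoc] using conj_mem (hTK htT) h1
  · exact Solv.mem_normalizer_of_map_conj e'.symm

/-- A conjugacy type of maximal invariant subgroups has at most six members normalised by `y`. -/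
theorem Hyp.type_bound (h : Hyp y) {X : Subgroup G} (hX : IsMaxInv y X) (s : Finset (Subgroup G))
    (hs : ∀ Y ∈ s, y ∈ Subgroup.normalizer (Y : Set G) ∧ ∃ g : G, cj g X = Y) : s.card ≤ 6 := by
  classical
  set N := Subgroup.normalizer (X : Set G) with hN
  set T := (Finset.univ : Finset G).filter fun g => y ∈ Subgroup.normalizer (cj g X : Set G) with hT
  set W := (Finset.univ : Finset G).filter fun w => w ∈ N ∧ w ^ 3 = 1 ∧ w ≠ 1 with hW
  -- few elements of order three in the normaliser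
  have hYN : Subgroup.zpowers y ≤ N := Subgroup.zpowers_le.2 hX.1.1
  have hH1 : Nat.card (X ⊔ Subgroup.zpowers y : Subgroup G) = 3 * Nat.card X := by
    have hcY : Nat.card (Subgroup.zpowers y) = 3 := by rw [Nat.card_zpowers, h.orderOf_eq]
    refine Nat.dvd_antisymm ?_ ?_
    · have := card_sup_dvd_mul hYN
      rwa [hcY, mul_comm] at this
    · refine Nat.Coprime.mul_dvd_of_dvd_of_dvd ?_ (hcY ▸ Subgroup.card_dvd_of_le le_sup_right)
        (Subgroup.card_dvd_of_le le_sup_left)
      exact Nat.prime_three.coprime_iff_not_dvd.2 hX.1.2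
  set H1 := X ⊔ Subgroup.zpowers y with hH1d
  have hH1N : H1 ≤ N := sup_le Subgroup.le_normalizer hYN
  have hWH : W ⊆ ((Finset.univ : Finset G).filter fun w => w ∈ H1) \ (Finset.univ.filter fun w => w ∈ X) := by
    intro w hw
    simp only [hW, Finset.mem_filter, Finset.mem_univ, true_and] at hw
    obtain ⟨hwN, hw3, hw1⟩ := hw
    simp only [Finset.mem_sdiff, Finset.mem_filter, Finset.mem_univ, true_and]
    refine ⟨?_, fun hwX => hw1 (eq_one_of_cube hX.1.2 hwX hw3)⟩
    rcases h.max_index hX with e | e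
    · rw [Subgroup.eq_of_le_of_card_ge hH1N (by rw [hH1, hN, e])]
      exact hwN
    · have h2 := Subgroup.sq_mem_of_index_two (two_index hH1N (by rw [hN, e, hH1]; ring)) (⟨w, hwN⟩ ^ 2 : N)
      rw [Subgroup.mem_subgroupOf] at h2
      simpa [← pow_mul, show 2 * 2 = 3 + 1 from rfl, pow_succ w 3, hw3] using h2
  have hWc : W.card ≤ 2 * Nat.card X := by
    refine (Finset.card_le_card hWH).trans ?_
    rw [Finset.card_sdiff_of_subset (fun w hw => by
        simp only [Finset.mem_filter, Finset.mem_univ, true_and] at hw ⊢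
        exact le_sup_left (b := Subgroup.zpowers y) hw),
      ← Fintype.card_subtype, ← Fintype.card_subtype, ← Nat.card_eq_fintype_card, ← Nat.card_eq_fintype_card,
      hH1]
    omega
  have hTW : T.card ≤ 9 * W.card := by
    refine Finset.card_le_mul_card_image_of_maps_to (f := fun g => g⁻¹ * y * g) (fun g hg => ?_) 9 fun w _ => ?_
    · simp only [hT, Finset.mem_filter, Finset.mem_univ, true_and] at hg
      simp only [hW, Finset.mem_filter, Finset.mem_univ, true_and]
      refine ⟨mem_normalizer_cj.1 hg, ?_, fun e => h.ne_one ?_⟩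
      · calc (g⁻¹ * y * g) ^ 3 = g⁻¹ * y ^ 3 * g := by simp only [pow_succ, pow_zero, one_mul, mul_assoc, mul_inv_cancel_left]
          _ = 1 := by rw [h.cube]; group
      · calc y = g * (g⁻¹ * y * g) * g⁻¹ := by group
          _ = 1 := by rw [e]; group
    · by_cases hne : (T.filter fun g => g⁻¹ * y * g = w).Nonempty
      swap
      · rw [Finset.not_nonempty_iff_eq_empty.1 hne]
        simp
      obtain ⟨g0, hg0⟩ := hne
      simp only [Finset.mem_filter] at hg0
      rw [← h.cent_card, Nat.card_eq_fintype_card, Fintype.card_subtype]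
      refine Finset.card_le_card_of_injOn (fun g => g * g0⁻¹) (fun g hg => ?_) fun g _ g' _ e => mul_right_cancel e
      simp only [Finset.coe_filter, Set.mem_ofPred_eq, Finset.mem_univ, true_and] at hg ⊢
      refine Subgroup.mem_centralizer_singleton_iff.2 ?_
      calc g * g0⁻¹ * y = g * (g0⁻¹ * y * g0) * g0⁻¹ := by group
        _ = g * (g⁻¹ * y * g) * g0⁻¹ := by rw [hg0.2, hg.2]
        _ = _ := by group
  have hsT : 3 * Nat.card X * s.card ≤ T.card := by
    have hT' : s ⊆ T.image fun g => cj g X := fun Y hY => by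
      obtain ⟨hy, g, hg⟩ := hs Y hY
      exact Finset.mem_image.2 ⟨g, Finset.mem_filter.2 ⟨Finset.mem_univ _, by rw [hg]; exact hy⟩, hg⟩
    refine (Nat.mul_le_mul le_rfl (Finset.card_le_card hT')).trans (Finset.mul_card_image_le_card _ _ fun Y hY => ?_)
    obtain ⟨g, hg, rfl⟩ := Finset.mem_image.1 hY
    refine le_trans (show 3 * Nat.card X ≤ Nat.card N by rcases h.max_index hX with e | e <;> rw [hN, e] <;> omega) ?_
    rw [Nat.card_eq_fintype_card, Fintype.card_subtype]
    refine Finset.card_le_card_of_injOn (fun k => g * k) (fun k hk => ?_) fun k _ k' _ e => mul_left_cancel e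
    simp only [Finset.coe_filter, Set.mem_ofPred_eq, Finset.mem_univ, true_and] at hk ⊢
    have heq : cj (g * k) X = cj g X := by
      rw [← cj_cj]
      exact congrArg (cj g) (Solv.map_conj_of_mem hk)
    refine ⟨?_, heq⟩
    simp only [hT, Finset.mem_filter, Finset.mem_univ, true_and, heq]
    exact (Finset.mem_filter.1 hg).2
  have hpos := Nat.card_pos (α := X)
  refine Nat.le_of_mul_le_mul_left ?_ (show 0 < 3 * Nat.card X by omega)
  calc 3 * Nat.card X * s.card ≤ T.card := hsT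
    _ ≤ 9 * W.card := hTW
    _ ≤ 9 * (2 * Nat.card X) := Nat.mul_le_mul le_rfl hWc
    _ = _ := by ring

end Facts

end Cfsg.Agent.Char.OrderNine.OneClass
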