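import Cfsg.Agent.Lib.Char.OrderNine.OneClass.Count
import Cfsg.Agent.Lib.Char.OrderNine.FullDegree
import Cfsg.Agent.Lib.Char.OrderNine.Arith
import Cfsg.Agent.Lib.Char.Burnside
import Cfsg.Agent.Lib.Char.Congr
import Cfsg.Agent.Lib.Char.Osima
import Cfsg.Agent.Lib.Solv.ThreeLocal.Basics

/-!
# The column of an element of order three and the two block inequalities
-/

set_option autoImplicit false
set_option linter.unusedSectionVars false
set_option linter.style.haveILetI false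

namespace Cfsg.Agent.Char.OrderNine.OneClass

open Cfsg
open Cfsg.Agent.Small.Order459648 (oneChar)
open scoped ComplexConjugate

universe u

variable {G : Type u} [Group G] [Fintype G] {y : G}

theorem oneChar_apply (g : G) : ((oneChar : IrrCharacter G) : G → ℂ) g = 1 := rfl

theorem deg_oneChar : deg ((oneChar : IrrCharacter G) : G → ℂ) = 1 := by
  simp [deg, oneChar]

/-- The column at an element of order three. -/
structure Column (y : G) (c : IrrCharacter G → ℤ) : Prop where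
  value : ∀ χ : IrrCharacter G, (χ : G → ℂ) y = (c χ : ℂ)

theorem Hyp.exists_column (h : Hyp y) : ∃ c : IrrCharacter G → ℤ, Column y c := by
  have hint : ∀ χ : IrrCharacter G, ∃ n : ℤ, (χ : G → ℂ) y = n := fun χ => by
    refine exists_int_of_fixed (irr_isCharacter χ.2) y fun k hk => ?_
    have hne : y ^ k ≠ 1 := fun e => h.ne_one ((powCoprime_bijective hk).1 (e.trans (one_pow k).symm))
    obtain ⟨g, hg⟩ := isConj_iff.1 (h.one_class (y ^ k) (by rw [← pow_mul, mul_comm, pow_mul, h.cube, one_pow]) hne)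
    rw [← hg, isClassFunction_character (irr_isCharacter χ.2)]
  choose c hc using hint
  exact ⟨c, ⟨hc⟩⟩

variable {c : IrrCharacter G → ℤ}

theorem Column.one (hc : Column y c) : c oneChar = 1 := by
  have h1 := hc.value oneChar
  rw [oneChar_apply] at h1
  exact_mod_cast h1.symm

theorem Column.sum_sq (h : Hyp y) (hc : Column y c) : ∑ χ, c χ * c χ = 9 := by
  classical
  rw [Solv.ThreeLocal.int_orth y y c c hc.value hc.value, if_pos (IsConj.refl y), h.cent_card]
  norm_num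

theorem Column.sum_deg (h : Hyp y) (hc : Column y c) :
    ∑ χ : IrrCharacter G, (deg (χ : G → ℂ) : ℤ) * c χ = 0 :=
  Solv.ThreeLocal.deg_orth h.ne_one c hc.value

theorem Column.congr (h : Hyp y) (hc : Column y c) (χ : IrrCharacter G) :
    ∃ k : ℕ, (deg (χ : G → ℂ) : ℤ) + 8 * c χ = 9 * k := by
  classical
  set C := Subgroup.centralizer ({y} : Set G) with hC
  obtain ⟨k, hk⟩ := classInner_natCast (isCharacter_comp C.subtype (irr_isCharacter χ.2))
    (irr_isCharacter (isIrrCharacter_one (G := ↥C)))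
  refine ⟨k, ?_⟩
  rw [classInner, h.cent_card, inv_mul_eq_iff_eq_mul₀ (by norm_num)] at hk
  simp only [Function.comp_apply, map_one, mul_one, Subgroup.coe_subtype] at hk
  have hrest : ∀ s ∈ (Finset.univ : Finset ↥C).erase 1, (χ : G → ℂ) (s : G) = (c χ : ℂ) := fun s hs => by
    have hs1 : (s : G) ≠ 1 := fun e => (Finset.mem_erase.1 hs).1 (Subtype.ext e)
    obtain ⟨g, hg⟩ := isConj_iff.1 (h.one_class (s : G)
      (h.cent_cube _ (Subgroup.mem_centralizer_singleton_iff.1 s.2)) hs1)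
    rw [← hg, isClassFunction_character (irr_isCharacter χ.2), hc.value]
  rw [← Finset.add_sum_erase _ _ (Finset.mem_univ (1 : ↥C)), Finset.sum_congr rfl hrest,
    Finset.sum_const, Finset.card_erase_of_mem (Finset.mem_univ _), Finset.card_univ,
    ← Nat.card_eq_fintype_card, h.cent_card, OneMemClass.coe_one, char_one_eq_deg (irr_isCharacter χ.2),
    nsmul_eq_mul] at hk
  push_cast at hk
  norm_num at hk
  have h2 : ((((deg (χ : G → ℂ) : ℤ) + 8 * c χ : ℤ)) : ℂ) = ((((9 : ℤ) * k : ℤ)) : ℂ) := by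
    push_cast
    linear_combination hk
  exact Int.cast_injective h2

theorem Column.cast_dvd (h : Hyp y) (hc : Column y c) (χ : IrrCharacter G) :
    ((deg (χ : G → ℂ) : ℤ) - c χ) % 9 = 0 := by
  obtain ⟨k, hk⟩ := hc.congr h χ
  omega

section Simple

variable [IsSimpleGroup G]

theorem Column.small (hna : ¬ IsMulCommutative G) (h : Hyp y) (hc : Column y c) {χ : IrrCharacter G}
    (hχ : χ ≠ oneChar) : c χ * c χ ≤ 8 ∧ 2 ≤ deg (χ : G → ℂ) ∧ (c χ ≠ 0 → ¬ 3 ∣ deg (χ : G → ℂ)) := by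
  classical
  have hsq : c χ * c χ ≤ 8 := by
    have := hc.sum_sq h
    rw [← Finset.add_sum_erase _ _ (Finset.mem_univ (oneChar : IrrCharacter G)), hc.one] at this
    have h2 := Finset.single_le_sum (f := fun ψ => c ψ * c ψ) (fun ψ _ => mul_self_nonneg (c ψ))
      (Finset.mem_erase.2 ⟨hχ, Finset.mem_univ χ⟩)
    linarith
  have hb : c χ ≤ 2 ∧ -2 ≤ c χ := ⟨by nlinarith, by nlinarith⟩
  refine ⟨hsq, Small.Order459648.one_lt_degree hna hχ, fun h0 hd => ?_⟩
  have := hc.cast_dvd h χ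
  omega

theorem exists_ne_zero_sum {ι : Type*} [Fintype ι] (f : ι → ℤ) (i₀ : ι) (h1 : f i₀ ≠ 0)
    (h0 : ∑ i, f i = 0) : ∃ i, i ≠ i₀ ∧ f i ≠ 0 := by
  classical
  by_contra hno
  push Not at hno
  rw [← Finset.add_sum_erase _ _ (Finset.mem_univ i₀),
    Finset.sum_eq_zero fun i hi => hno i (Finset.mem_erase.1 hi).1, add_zero] at h0
  exact h1 h0

variable {q a b : ℕ}

/-- A character of odd degree, a power of `q`. -/
theorem Column.exists_q_pow (hna : ¬ IsMulCommutative G) (h : Hyp y) (hc : Column y c) (hq : q.Prime)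
    (hcard : Nat.card G = 9 * 2 ^ a * q ^ b) :
    ∃ (χ : IrrCharacter G) (l : ℕ), χ ≠ oneChar ∧ c χ ≠ 0 ∧ deg (χ : G → ℂ) = q ^ l ∧ 1 ≤ l ∧ l ≤ b ∧
      (q ^ l % 9 = 1 ∨ q ^ l % 9 = 8) ∧ q ^ (2 * l) < Nat.card G := by
  classical
  have hsum := hc.sum_deg h
  rw [← Finset.add_sum_erase _ _ (Finset.mem_univ (oneChar : IrrCharacter G)), deg_oneChar, hc.one] at hsum
  obtain ⟨χ, hχ, hodd⟩ : ∃ χ ∈ (Finset.univ : Finset (IrrCharacter G)).erase oneChar,
      ¬ 2 ∣ (deg (χ : G → ℂ) : ℤ) * c χ := by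
    by_contra hno
    push Not at hno
    have := Finset.dvd_sum hno
    omega
  have hχ1 := (Finset.mem_erase.1 hχ).1
  obtain ⟨hsq, hd2, hd3⟩ := hc.small hna h hχ1
  have hc2 : ¬ 2 ∣ c χ := fun e => hodd (dvd_mul_of_dvd_right e _)
  have hx2 : ¬ 2 ∣ deg (χ : G → ℂ) := fun e => hodd (dvd_mul_of_dvd_left (Int.natCast_dvd_natCast.2 e) _)
  have hc0 : c χ ≠ 0 := fun e => hc2 (e ▸ dvd_zero 2)
  have hdvd := deg_dvd_card χ.2
  obtain ⟨l, hl⟩ := OrderNine.eq_q_pow hq (hcard ▸ hdvd) (hd3 hc0) hx2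
  have hl1 : 1 ≤ l := by
    by_contra hl0
    rw [hl, show l = 0 by omega, pow_zero] at hd2
    omega
  refine ⟨χ, l, hχ1, hc0, hl, hl1, ?_, ?_, ?_⟩
  · have h1 : q ^ l ∣ q ^ b * (9 * 2 ^ a) := by
      rw [mul_comm (q ^ b), ← hcard, ← hl]; exact hdvd
    have hq' : ¬ q ∣ 9 * 2 ^ a := fun hd => by
      have hqd : q ∣ deg (χ : G → ℂ) := hl ▸ dvd_pow_self q (by omega)
      rcases hq.dvd_mul.1 hd with d | d
      · have : q = 3 := (Nat.prime_dvd_prime_iff_eq hq Nat.prime_three).1 (hq.dvd_of_dvd_pow (show q ∣ 3 ^ 2 from d))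
        exact hd3 hc0 (this ▸ hqd)
      · have : q = 2 := (Nat.prime_dvd_prime_iff_eq hq Nat.prime_two).1 (hq.dvd_of_dvd_pow d)
        exact hx2 (this ▸ hqd)
    exact (Nat.pow_dvd_pow_iff_le_right hq.one_lt).1
      (((hq.coprime_iff_not_dvd.2 hq').pow_left l).dvd_of_dvd_mul_right h1)
  · have h9 := hc.cast_dvd h χ
    rw [hl] at h9
    have hb : c χ ≤ 2 ∧ -2 ≤ c χ := ⟨by nlinarith, by nlinarith⟩
    generalize q ^ l = x at h9 ⊢
    omega
  · have h1 := Solv.ThreeLocal.sum_deg_sq (G := G)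
    rw [← Finset.add_sum_erase _ _ (Finset.mem_univ (oneChar : IrrCharacter G)), deg_oneChar] at h1
    have h2 := Finset.single_le_sum (f := fun ψ : IrrCharacter G => (deg (ψ : G → ℂ) : ℤ) * deg (ψ : G → ℂ))
      (fun ψ _ => mul_self_nonneg _) hχ
    simp only [hl] at h2
    have h3 : ((q ^ l * q ^ l : ℕ) : ℤ) < (Nat.card G : ℤ) := by push_cast at h2 h1 ⊢; linarith
    rw [two_mul, pow_add]
    exact_mod_cast h3

/-- A character of two-power degree. -/
theorem Column.exists_two_pow (hna : ¬ IsMulCommutative G) (h : Hyp y) (hc : Column y c) (hq : q.Prime)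
    (hcard : Nat.card G = 9 * 2 ^ a * q ^ b) :
    ∃ (χ : IrrCharacter G) (i : ℕ), χ ≠ oneChar ∧ c χ ≠ 0 ∧ deg (χ : G → ℂ) = 2 ^ i := by
  classical
  have hsum := hc.sum_deg h
  rw [← Finset.add_sum_erase _ _ (Finset.mem_univ (oneChar : IrrCharacter G)), deg_oneChar, hc.one] at hsum
  obtain ⟨χ, hχ, hnd⟩ : ∃ χ ∈ (Finset.univ : Finset (IrrCharacter G)).erase oneChar,
      ¬ (q : ℤ) ∣ (deg (χ : G → ℂ) : ℤ) * c χ := by
    by_contra hno
    push Not at hno
    have h1 := Finset.dvd_sum hno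
    have hone : (q : ℤ) ∣ 1 := by
      rw [eq_neg_of_add_eq_zero_right hsum, dvd_neg] at h1
      simpa using h1
    exact hq.ne_one (by exact_mod_cast Int.eq_one_of_dvd_one (by positivity) hone)
  have hχ1 := (Finset.mem_erase.1 hχ).1
  have hc0 : c χ ≠ 0 := fun e => hnd (by rw [e, mul_zero]; exact dvd_zero _)
  obtain ⟨i, hi⟩ := OrderNine.eq_two_pow hq (hcard ▸ deg_dvd_card χ.2) ((hc.small hna h hχ1).2.2 hc0)
    (fun e => hnd (dvd_mul_of_dvd_left (Int.natCast_dvd_natCast.2 e) _))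
  exact ⟨χ, i, hχ1, hc0, hi⟩

theorem vanish_of_coprime (hna : ¬ IsMulCommutative G) {χ : IrrCharacter G} (hne : χ ≠ oneChar) {g : G}
    (hg : g ≠ 1) (hcop : Nat.Coprime (deg (χ : G → ℂ)) (Subgroup.centralizer ({g} : Set G)).index) :
    (χ : G → ℂ) g = 0 := by
  have hlt := norm_lt hna hne hg
  obtain ⟨_, n, ρ, hρ, rfl⟩ := χ
  change deg ρ.character |>.Coprime _ at hcop
  change ρ.character g = 0
  change ‖ρ.character g‖ < (deg ρ.character : ℝ) at hlt
  rw [deg_character] at hcop hlt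
  exact (vanish_or_full ρ hρ g hcop).resolve_right fun e => (ne_of_lt hlt) e

/-- No involution centralises a Sylow subgroup of the odd prime. -/
theorem Column.burn (hna : ¬ IsMulCommutative G) (h : Hyp y) (hc : Column y c) (hq : q.Prime) (hq2 : q ≠ 2)
    (hq3 : q ≠ 3) (hcard : Nat.card G = 9 * 2 ^ a * q ^ b) :
    ∀ u : G, orderOf u = 2 → ∀ S : Subgroup G, Nat.card S = q ^ b → ∃ s ∈ S, u * s ≠ s * u := by
  intro u hu S hS
  by_contra hno
  push Not at hno
  obtain ⟨χ, l, hχ1, -, hl, hl1, -, -, -⟩ := hc.exists_q_pow hna h hq hcard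
  have hu1 : u ≠ 1 := fun e => by rw [e, orderOf_one] at hu; norm_num at hu
  set C := Subgroup.centralizer ({u} : Set G) with hC
  have hSC : S ≤ C := fun s hs => Subgroup.mem_centralizer_singleton_iff.2 (hno s hs).symm
  have hidx : C.index ∣ 9 * 2 ^ a := by
    have h1 : S.index ∣ 9 * 2 ^ a := by
      have h2 := S.card_mul_index
      rw [hS, hcard, mul_comm (9 * 2 ^ a)] at h2
      rw [Nat.eq_of_mul_eq_mul_left (pow_pos hq.pos b) h2]
    exact (Subgroup.index_dvd_of_le hSC).trans h1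
  have hcop : Nat.Coprime (deg (χ : G → ℂ)) C.index := by
    rw [hl]
    refine Nat.Coprime.pow_left l (Nat.Coprime.coprime_dvd_right hidx (hq.coprime_iff_not_dvd.2 fun hd => ?_))
    rcases hq.dvd_mul.1 hd with d | d
    · exact hq3 ((Nat.prime_dvd_prime_iff_eq hq Nat.prime_three).1 (hq.dvd_of_dvd_pow (show q ∣ 3 ^ 2 from d)))
    · exact hq2 ((Nat.prime_dvd_prime_iff_eq hq Nat.prime_two).1 (hq.dvd_of_dvd_pow d))
  obtain ⟨M, hM⟩ := exists_pModular Nat.prime_two
  have h1 := char_congr_deg hM (irr_isCharacter χ.2) (g := u) ⟨1, by rw [hu, pow_one]⟩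
  rw [vanish_of_coprime hna hχ1 hu1 hcop, char_one_eq_deg (irr_isCharacter χ.2), hl,
    show (0 : ℂ) - ((q ^ l : ℕ) : ℂ) = ((-(q ^ l : ℕ) : ℤ) : ℂ) by push_cast; ring, memLI_intCast_iff hM,
    dvd_neg, Int.natCast_dvd_natCast] at h1
  exact hq2 ((Nat.prime_dvd_prime_iff_eq Nat.prime_two hq).1 (Nat.prime_two.dvd_of_dvd_pow h1)).symm

open scoped _root_.Classical in
/-- The value sum over the principal block is divisible by the full part of the order. -/
theorem Column.block (hna : ¬ IsMulCommutative G) (h : Hyp y) (hc : Column y c) {p : ℕ} [Fact p.Prime]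
    (hp3 : p ≠ 3) {e m : ℕ} (hG : Nat.card G = p ^ e * m) (hm : ¬ p ∣ m) (he : 1 ≤ e) :
    ∃ B : Finset (IrrCharacter G), oneChar ∈ B ∧
      (∀ χ : IrrCharacter G, χ ≠ oneChar → (∃ i, deg (χ : G → ℂ) = p ^ i) → χ ∉ B) ∧
      (p ^ e : ℤ) ∣ ∑ χ ∈ B, (deg (χ : G → ℂ) : ℤ) * c χ := by
  have hp : p.Prime := Fact.out
  obtain ⟨M, hM⟩ := exists_pModular hp
  refine ⟨Finset.univ.filter fun χ => χ ∈ principalBlock M G,
    Finset.mem_filter.2 ⟨Finset.mem_univ _, sameBlock_refl (pmod_prime hM) (fun _ : G => (1 : ℂ))⟩,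
    fun χ hχ ⟨i, hi⟩ hmem => ?_, ?_⟩
  · obtain ⟨Q⟩ : Nonempty (Sylow p G) := inferInstance
    have hQc : Nat.card (Q : Subgroup G) = p ^ e := by
      rw [Q.card_eq_multiplicity, hG, Nat.factorization_mul (pow_ne_zero _ hp.ne_zero)
        (fun e0 : m = 0 => hm (by rw [e0]; exact dvd_zero p)), Finsupp.add_apply, hp.factorization_pow, Finsupp.single_eq_same,
        Nat.factorization_eq_zero_of_not_dvd hm, add_zero]
    haveI : Nontrivial (Q : Subgroup G) := Finite.one_lt_card_iff_nontrivial.1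
      (hQc ▸ Nat.one_lt_pow (by omega) hp.one_lt)
    haveI := Q.isPGroup'.center_nontrivial
    obtain ⟨z, hz⟩ := exists_ne (1 : Subgroup.center (Q : Subgroup G))
    have hz1 : ((z : (Q : Subgroup G)) : G) ≠ 1 := fun e1 => hz (Subtype.ext (Subtype.ext e1))
    set C := Subgroup.centralizer ({((z : (Q : Subgroup G)) : G)} : Set G) with hC
    have hQC : (Q : Subgroup G) ≤ C := fun s hs => Subgroup.mem_centralizer_singleton_iff.2
      (congrArg Subtype.val (Subgroup.mem_center_iff.1 z.2 ⟨s, hs⟩))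
    have hidx : ¬ p ∣ C.index := fun hd => hm (by
      have h1 := (Q : Subgroup G).card_mul_index
      rw [hQc, hG] at h1
      rw [← Nat.eq_of_mul_eq_mul_left (pow_pos hp.pos e) h1]
      exact hd.trans (Subgroup.index_dvd_of_le hQC))
    have hv := vanish_of_coprime hna hχ hz1 (hi ▸ ((hp.coprime_iff_not_dvd.2 hidx).pow_left i))
    have h2 := (Finset.mem_filter.1 hmem).2 ((z : (Q : Subgroup G)) : G)
    rw [centralChar, centralChar, hv, mul_zero, zero_div, sub_zero, mul_one, div_one, ← hC,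
      show ((C.index : ℕ) : ℂ) = ((C.index : ℤ) : ℂ) by push_cast; rfl, memLI_intCast_iff hM,
      Int.natCast_dvd_natCast] at h2
    exact hidx h2
  set B := (Finset.univ : Finset (IrrCharacter G)).filter fun χ => χ ∈ principalBlock M G with hB
  have hord : ¬ p ∣ orderOf y := by
    rw [h.orderOf_eq]
    exact fun hd => hp3 ((Nat.prime_dvd_prime_iff_eq hp Nat.prime_three).1 hd)
  have hvan : ∀ g : G, p ∣ orderOf g → ∑ χ ∈ B, (c χ : ℂ) * (χ : G → ℂ) g = 0 := by
    intro g hg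
    have h1 := weak_orthogonality hM (isPBlock_principalBlock M) hord hg
    rw [finsum_mem_irr] at h1
    have h2 := congrArg conj h1
    rw [map_zero, map_sum] at h2
    rw [← h2]
    refine Finset.sum_congr rfl fun χ _ => ?_
    rw [map_mul, Complex.conj_conj, hc.value, map_intCast]
  obtain ⟨Q⟩ : Nonempty (Sylow p G) := inferInstance
  have hQc : Nat.card (Q : Subgroup G) = p ^ e := by
    rw [Q.card_eq_multiplicity, hG, Nat.factorization_mul (pow_ne_zero _ hp.ne_zero)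
      (fun e0 : m = 0 => hm (by rw [e0]; exact dvd_zero p)), Finsupp.add_apply, hp.factorization_pow, Finsupp.single_eq_same,
      Nat.factorization_eq_zero_of_not_dvd hm, add_zero]
  have hn : ∀ χ : IrrCharacter G, ∃ n : ℕ,
      ∑ s : (Q : Subgroup G), (χ : G → ℂ) (s : G) = (Nat.card (Q : Subgroup G) : ℂ) * n := fun χ => by
    obtain ⟨n, hn⟩ := classInner_natCast (isCharacter_comp (Q : Subgroup G).subtype (irr_isCharacter χ.2))
      (irr_isCharacter (isIrrCharacter_one (G := ↥(Q : Subgroup G))))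
    refine ⟨n, ?_⟩
    rw [classInner, inv_mul_eq_iff_eq_mul₀ (Nat.cast_ne_zero.2 Nat.card_pos.ne')] at hn
    simpa using hn
  choose n hn using hn
  refine ⟨∑ χ ∈ B, c χ * n χ, ?_⟩
  have key : (((∑ χ ∈ B, (deg (χ : G → ℂ) : ℤ) * c χ) : ℤ) : ℂ) =
      ((((p : ℤ) ^ e * ∑ χ ∈ B, c χ * n χ) : ℤ) : ℂ) := by
    push_cast
    rw [Finset.mul_sum]
    have e1 : ∑ s : (Q : Subgroup G), ∑ χ ∈ B, (c χ : ℂ) * (χ : G → ℂ) (s : G) =
        ∑ χ ∈ B, (c χ : ℂ) * (χ : G → ℂ) 1 := by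
      rw [Finset.sum_eq_single (1 : (Q : Subgroup G)) (fun s _ hs => hvan _ ?_)
        (fun hh => absurd (Finset.mem_univ _) hh), OneMemClass.coe_one]
      obtain ⟨j, hj⟩ := IsPGroup.iff_orderOf.1 Q.isPGroup' s
      rw [Subgroup.orderOf_coe, hj]
      refine dvd_pow_self p fun j0 => hs (orderOf_eq_one_iff.1 ?_)
      rw [hj, j0, pow_zero]
    rw [Finset.sum_comm] at e1
    refine Eq.trans ?_ ((e1.symm).trans (Finset.sum_congr rfl fun χ _ => ?_))
    · exact Finset.sum_congr rfl fun χ _ => by rw [char_one_eq_deg (irr_isCharacter χ.2), mul_comm]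
    · rw [← Finset.mul_sum, hn, hQc]
      push_cast
      ring
  exact_mod_cast key

/-- The inequality from a block containing the trivial character and omitting one with non-zero value. -/
theorem Column.ineq (h : Hyp y) (hc : Column y c) {B : Finset (IrrCharacter G)}
    (h1 : oneChar ∈ B) {χ₀ : IrrCharacter G} (h0 : χ₀ ∉ B) (hc0 : c χ₀ ≠ 0) {n : ℕ}
    (hd : (n : ℤ) ∣ ∑ χ ∈ B, (deg (χ : G → ℂ) : ℤ) * c χ) : 9 * (n * n) ≤ 20 * Nat.card G := by
  classical
  set K := ∑ χ ∈ B, (deg (χ : G → ℂ) : ℤ) * c χ with hK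
  set s := ∑ χ ∈ B, c χ * c χ with hs
  have htot := Finset.sum_add_sum_compl B fun χ : IrrCharacter G => c χ * c χ
  rw [hc.sum_sq h] at htot
  have hs1 : 1 ≤ s := by
    have := Finset.single_le_sum (f := fun χ => c χ * c χ) (fun χ _ => mul_self_nonneg _) h1
    simp only [hc.one] at this
    linarith
  have hs8 : s ≤ 8 := by
    have := Finset.single_le_sum (f := fun χ => c χ * c χ) (fun χ _ => mul_self_nonneg _)
      (Finset.mem_compl.2 h0)
    have h2 : 1 ≤ c χ₀ * c χ₀ := by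
      have := mul_self_pos.2 hc0
      omega
    linarith
  have hmod : (K - s) % 9 = 0 := by
    rw [hK, hs, ← Finset.sum_sub_distrib]
    refine Int.emod_eq_zero_of_dvd (Finset.dvd_sum fun χ _ => ?_)
    rw [← sub_mul]
    exact dvd_mul_of_dvd_left (Int.dvd_of_emod_eq_zero (hc.cast_dvd h χ)) _
  have hK0 : K ≠ 0 := by omega
  have hneg : ∑ χ ∈ Bᶜ, (deg (χ : G → ℂ) : ℤ) * c χ = -K := by
    have := Finset.sum_add_sum_compl B fun χ : IrrCharacter G => (deg (χ : G → ℂ) : ℤ) * c χ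
    rw [hc.sum_deg h] at this
    linarith
  have hX := Finset.sum_add_sum_compl B fun χ : IrrCharacter G => (deg (χ : G → ℂ) : ℤ) * deg (χ : G → ℂ)
  rw [Solv.ThreeLocal.sum_deg_sq] at hX
  have c1 := Finset.sum_mul_sq_le_sq_mul_sq B (fun χ : IrrCharacter G => (deg (χ : G → ℂ) : ℤ)) c
  have c2 := Finset.sum_mul_sq_le_sq_mul_sq Bᶜ (fun χ : IrrCharacter G => (deg (χ : G → ℂ) : ℤ)) c
  rw [hneg] at c2
  rw [← hK] at c1
  simp only [pow_two, neg_mul_neg] at c1 c2
  rw [show ∑ χ ∈ Bᶜ, c χ * c χ = 9 - s by linarith] at c2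
  rw [← hs] at c1
  set XB := ∑ χ ∈ B, (deg (χ : G → ℂ) : ℤ) * deg (χ : G → ℂ)
  set XN := ∑ χ ∈ Bᶜ, (deg (χ : G → ℂ) : ℤ) * deg (χ : G → ℂ)
  have hN : (n : ℤ) ≤ |K| := Int.le_of_dvd (abs_pos.2 hK0) ((dvd_abs _ _).2 hd)
  have hnK : (n : ℤ) * n ≤ K * K := by
    rw [← abs_mul_abs_self K]
    exact mul_le_mul hN hN (by positivity) (abs_nonneg _)
  have hfin : 9 * (K * K) ≤ 20 * (Nat.card G : ℤ) := by
    have e1 := mul_le_mul_of_nonneg_left c1 (show 0 ≤ 9 - s by omega)
    have e2 := mul_le_mul_of_nonneg_left c2 (show 0 ≤ s by omega)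
    have e3 : s * (9 - s) ≤ 20 := by
      interval_cases s <;> norm_num
    have e4 : 0 ≤ XB + XN := by rw [hX]; positivity
    have e5 := mul_le_mul_of_nonneg_right e3 e4
    rw [← hX]
    nlinarith
  have : ((9 * (n * n) : ℕ) : ℤ) ≤ ((20 * Nat.card G : ℕ) : ℤ) := by
    push_cast
    linarith
  exact_mod_cast this

end Simple

end Cfsg.Agent.Char.OrderNine.OneClass
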