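import Cfsg.Agent.Lib.Char.OrderNine.OneClass.Bound
import Cfsg.Agent.Lib.Solv.ThreeLocal.Ctx

/-!
# Counting the products of two elements of order three equal to a given one
-/

set_option autoImplicit false
set_option linter.unusedSectionVars false
set_option linter.style.haveILetI false

namespace Cfsg.Agent.Char.OrderNine.OneClass

open Cfsg
open scoped ComplexConjugate

universe u

variable {G : Type u} [Group G] [Fintype G] {y : G}

/-- The abelian subgroup attached to a triangle. -/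
theorem triangle_abelian {x z : G} (hx : x ^ 3 = 1) (hz : z ^ 3 = 1) (hxz : (x * z) ^ 3 = 1) :
    ∃ A : Subgroup G, (∀ a ∈ A, ∀ b ∈ A, a * b = b * a) ∧ x⁻¹ * z ∈ A ∧ ∀ a ∈ A, x⁻¹ * a * x ∈ A := by
  set u := x⁻¹ * z with hu
  set u' := x⁻¹ * u * x with hu'
  set u'' := x⁻¹ * u' * x with hu''
  have hx2 : x⁻¹ = x * x := inv_eq_of_mul_eq_one_right (by rw [← hx, pow_succ, pow_two, mul_assoc])
  have hz2 : z⁻¹ = z * z := inv_eq_of_mul_eq_one_right (by rw [← hz, pow_succ, pow_two, mul_assoc])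
  have hzx : z * x * (z * x) = x⁻¹ * z⁻¹ := by
    have h3 : (z * x) * (z * x) * (z * x) = 1 := by
      calc (z * x) * (z * x) * (z * x) = x⁻¹ * ((x * z) * (x * z) * (x * z)) * x := by group
        _ = 1 := by
          rw [show (x * z) * (x * z) * (x * z) = (x * z) ^ 3 by rw [pow_succ, pow_two], hxz]
          group
    rw [← mul_inv_rev]
    exact eq_inv_of_mul_eq_one_left h3
  have e1 : u' = x * z * x := by
    rw [hu', hu]
    calc x⁻¹ * (x⁻¹ * z) * x = (x⁻¹ * x⁻¹) * z * x := by group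
      _ = (x * x * (x * x)) * z * x := by rw [hx2]
      _ = (x ^ 3) * (x * z * x) := by rw [pow_succ, pow_two]; group
      _ = x * z * x := by rw [hx, one_mul]
  have e2 : u * u' = x * z⁻¹ := by
    rw [e1, hu]
    calc x⁻¹ * z * (x * z * x) = x⁻¹ * (z * x * (z * x)) := by group
      _ = x⁻¹ * (x⁻¹ * z⁻¹) := by rw [hzx]
      _ = x⁻¹ * x⁻¹ * z⁻¹ := by group
      _ = (x ^ 3) * x * z⁻¹ := by rw [hx2, pow_succ, pow_two]; group
      _ = _ := by rw [hx, one_mul]
  have e3 : u' * u = x * z⁻¹ := by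
    rw [e1, hu, hz2]
    group
  have hcomm : u * u' = u' * u := e2.trans e3.symm
  have hprod : u * u' * u'' = 1 := by
    rw [e2, hu'', e1]
    calc x * z⁻¹ * (x⁻¹ * (x * z * x) * x) = x * x * x := by group
      _ = 1 := by rw [← hx, pow_succ, pow_two]
  have hu2 : u'' = (u * u')⁻¹ := eq_inv_of_mul_eq_one_right hprod
  set A := Subgroup.closure ({u, u'} : Set G) with hAdef
  have hmu : u ∈ A := Subgroup.subset_closure (Set.mem_insert _ _)
  have hmu' : u' ∈ A := Subgroup.subset_closure (Set.mem_insert_of_mem _ rfl)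
  refine ⟨A, fun a ha b hb => ?_, hmu, fun a ha => ?_⟩
  · have h1 : ∀ g ∈ ({u, u'} : Set G), ∀ g' ∈ ({u, u'} : Set G), g * g' = g' * g := by
      rintro g (rfl | rfl) g' (rfl | rfl) <;> first | rfl | exact hcomm | exact hcomm.symm
    haveI := Subgroup.isMulCommutative_closure h1
    exact congrArg Subtype.val (mul_comm' (⟨a, ha⟩ : A) ⟨b, hb⟩)
  · have h1 : A ≤ A.comap (MulAut.conj x⁻¹).toMonoidHom := by
      rw [hAdef, Subgroup.closure_le]
      rintro g (rfl | rfl)
      · show (MulAut.conj x⁻¹) u ∈ A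
        rw [MulAut.conj_apply, inv_inv]
        exact hmu'
      · show (MulAut.conj x⁻¹) u' ∈ A
        rw [MulAut.conj_apply, inv_inv, ← hu'', hu2]
        exact A.inv_mem (A.mul_mem hmu hmu')
    have := h1 ha
    rwa [Subgroup.mem_comap, MulEquiv.coe_toMonoidHom, MulAut.conj_apply, inv_inv] at this

theorem Hyp.cent_comm (h : Hyp y) {v w : G} (hv : v * y = y * v) (hw : w * y = y * w) : v * w = w * v := by
  haveI : Fact (Nat.Prime 3) := ⟨Nat.prime_three⟩
  exact congrArg Subtype.val (IsPGroup.commutative_of_card_eq_prime_sq (p := 3)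
    (G := ↥(Subgroup.centralizer ({y} : Set G))) (by rw [h.cent_card]; norm_num)
    ⟨v, Subgroup.mem_centralizer_singleton_iff.2 hv⟩ ⟨w, Subgroup.mem_centralizer_singleton_iff.2 hw⟩)

open scoped _root_.Classical in
/-- The solutions of `x z = y` with `x` and `z` conjugate to `y`. -/
noncomputable def sols (y : G) : Finset G :=
  Finset.univ.filter fun x => IsConj y x ∧ IsConj y (x⁻¹ * y)

theorem Hyp.cube_of_conj (h : Hyp y) {x : G} (hx : IsConj y x) : x ^ 3 = 1 ∧ x ≠ 1 := by
  obtain ⟨g, rfl⟩ := isConj_iff.1 hx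
  exact ⟨(h.of_conj g).cube, (h.of_conj g).ne_one⟩

/-- Solutions outside the centraliser give elements of invariant abelian subgroups. -/
theorem Hyp.triangle_inv (h : Hyp y) {x : G} (hx : IsConj y x) (hz : IsConj y (x⁻¹ * y))
    (hxy : ¬ x * y = y * x) : x * y ≠ 1 ∧ ∃ A : Subgroup G, Inv y A ∧ x * y ∈ A := by
  haveI : Fact (Nat.Prime 3) := ⟨Nat.prime_three⟩
  obtain ⟨hx3, hx1⟩ := h.cube_of_conj hx
  obtain ⟨hz3, -⟩ := h.cube_of_conj hz
  have hu : x⁻¹ * (x⁻¹ * y) = x * y := by
    calc x⁻¹ * (x⁻¹ * y) = x⁻¹ * x⁻¹ * x ^ 3 * (x ^ 3)⁻¹ * y := by group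
      _ = x⁻¹ * x⁻¹ * x ^ 3 * y := by rw [hx3]; group
      _ = _ := by simp only [pow_succ, pow_zero, one_mul, mul_assoc, inv_mul_cancel_left]
  obtain ⟨A, hA, huA, hxA⟩ := triangle_abelian hx3 hz3 (by rw [mul_inv_cancel_left, h.cube])
  rw [hu] at huA
  refine ⟨fun e => hxy (by rw [eq_inv_of_mul_eq_one_left e]; group), A, ⟨?_, ?_⟩, huA⟩
  · have hy' : y⁻¹ ∈ Subgroup.normalizer (A : Set G) := by
      refine Solv.mem_normalizer_of_map_conj ?_
      refine Subgroup.eq_of_le_of_card_ge ?_ (le_of_eq (Subgroup.card_map_of_injective (MulEquiv.injective _)).symm)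
      rintro _ ⟨c, hc, rfl⟩
      have m := hxA _ (hxA _ hc)
      have hcomm : (x * y)⁻¹ * (x⁻¹ * (x⁻¹ * c * x) * x) * (x * y) = x⁻¹ * (x⁻¹ * c * x) * x := by
        rw [mul_assoc, hA _ m _ huA, inv_mul_cancel_left]
      have e : y⁻¹ * c * y = (x * y)⁻¹ * (x⁻¹ * (x⁻¹ * c * x) * x) * (x * y) := by
        calc y⁻¹ * c * y = y⁻¹ * ((x ^ 3)⁻¹ * c * x ^ 3) * y := by rw [hx3]; group
          _ = _ := by simp only [pow_succ, pow_zero, one_mul, mul_inv_rev, mul_assoc]
      show (MulAut.conj y⁻¹) c ∈ A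
      rw [MulAut.conj_apply, inv_inv, e, hcomm]
      exact m
    simpa using inv_mem hy'
  intro h3
  -- the elements of cube one form a three-group fixed-point-freely acted on by `x`
  let B : Subgroup G :=
    { carrier := {w | w ∈ A ∧ w ^ 3 = 1}
      one_mem' := ⟨A.one_mem, one_pow 3⟩
      mul_mem' := fun {v w} hv hw => ⟨A.mul_mem hv.1 hw.1, by
        rw [(show Commute v w from hA v hv.1 w hw.1).mul_pow, hv.2, hw.2, one_mul]⟩
      inv_mem' := fun {v} hv => ⟨A.inv_mem hv.1, by rw [inv_pow, hv.2, inv_one]⟩ }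
  have hB : IsPGroup 3 B := fun w => ⟨1, Subtype.ext (by simpa using w.2.2)⟩
  obtain ⟨⟨w0, hw0A⟩, hw0⟩ := exists_prime_orderOf_dvd_card' 3 h3
  rw [Subgroup.orderOf_mk] at hw0
  have hw0B : w0 ∈ B := ⟨hw0A, by rw [← hw0]; exact pow_orderOf_eq_one w0⟩
  have hBd : 3 ∣ Nat.card B := hw0 ▸ Subgroup.orderOf_dvd_natCard B hw0B
  have hxB : ∀ w ∈ B, x⁻¹ * w * x ∈ B := fun w hw => ⟨hxA w hw.1, by
    have := conj_pow (a := x⁻¹) (b := w) (i := 3)
    rw [inv_inv] at this
    rw [this, hw.2]; group⟩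
  have hxN : x⁻¹ ∈ Subgroup.normalizer (B : Set G) := by
    refine Solv.mem_normalizer_of_map_conj ?_
    refine Subgroup.eq_of_le_of_card_ge ?_ (le_of_eq (Subgroup.card_map_of_injective (MulEquiv.injective _)).symm)
    rintro _ ⟨c, hc, rfl⟩
    show (MulAut.conj x⁻¹) c ∈ B
    rw [MulAut.conj_apply, inv_inv]
    exact hxB c hc
  let H := Subgroup.zpowers x
  have hH : H ≤ Subgroup.normalizer (B : Set G) := Subgroup.zpowers_le.2 (by simpa using inv_mem hxN)
  letI : MulAction H B :=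
    { smul := fun k w => ⟨(k : G) * w * (k : G)⁻¹, conj_mem (hH k.2) w.2⟩
      one_smul := fun w => Subtype.ext (by show ((1 : H) : G) * w * ((1 : H) : G)⁻¹ = w; simp)
      mul_smul := fun a b w => Subtype.ext (by
        show ((a * b : H) : G) * w * ((a * b : H) : G)⁻¹ = (a : G) * ((b : G) * w * (b : G)⁻¹) * (a : G)⁻¹
        rw [Subgroup.coe_mul]; group) }
  have hp : IsPGroup 3 H := IsPGroup.of_card (n := 1) (by
    rw [Nat.card_zpowers, orderOf_eq_prime hx3 hx1, pow_one])
  obtain ⟨w, hw, hw1⟩ := hp.exists_fixed_point_of_prime_dvd_card_of_fixed_point B hBd (a := 1)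
    (fun k => Subtype.ext (by show (k : G) * ((1 : B) : G) * (k : G)⁻¹ = ((1 : B) : G); simp))
  have hwx : x * (w : G) * x⁻¹ = w := congrArg Subtype.val (hw ⟨x, Subgroup.mem_zpowers x⟩)
  rw [mul_inv_eq_iff_eq_mul] at hwx
  have hwne : (w : G) ≠ 1 := fun e => hw1 (Subtype.ext e.symm)
  have hwy : (w : G) * y = y * w := by
    have h1 := hA _ w.2.1 _ huA
    calc (w : G) * y = x⁻¹ * (x * w) * y := by group
      _ = x⁻¹ * (w * (x * y)) := by rw [hwx]; group
      _ = x⁻¹ * (x * y * w) := by rw [h1]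
      _ = _ := by group
  obtain ⟨g, hg⟩ := isConj_iff.1 (h.one_class _ w.2.2 hwne)
  exact hxy ((h.of_conj g).cent_comm (by rw [hg]; exact hwx) (by rw [hg]; exact hwy.symm))

open scoped _root_.Classical in
/-- The number of solutions. -/
theorem Hyp.sols_bound [IsSimpleGroup G] (h : Hyp y) {q a b : ℕ} (hq : q.Prime) (hq2 : q ≠ 2) (hq3 : q ≠ 3)
    (ha : 3 ≤ a) (hb : 1 ≤ b) (hcard : Nat.card G = 9 * 2 ^ a * q ^ b)
    (hburn : ∀ u : G, orderOf u = 2 → ∀ S : Subgroup G, Nat.card S = q ^ b → ∃ s ∈ S, u * s ≠ s * u) :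
    (sols y).card ≤ 7 + (qBound q a b + twoBound a) := by
  set O := (sols y).filter fun x => ¬ x * y = y * x with hO
  have hin : ((sols y).filter fun x => x * y = y * x).card ≤ 7 := by
    have hsub : ((sols y).filter fun x => x * y = y * x) ⊆
        (((Finset.univ : Finset G).filter fun x => x ∈ Subgroup.centralizer ({y} : Set G)).erase 1).erase y := by
      intro x hx
      simp only [sols, Finset.mem_filter, Finset.mem_univ, true_and] at hx
      simp only [Finset.mem_erase, Finset.mem_filter, Finset.mem_univ, true_and]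
      refine ⟨fun e => ?_, (h.cube_of_conj hx.1.1).2, Subgroup.mem_centralizer_singleton_iff.2 hx.2⟩
      have := (h.cube_of_conj hx.1.2).2
      rw [e, inv_mul_cancel] at this
      exact this rfl
    refine (Finset.card_le_card hsub).trans ?_
    rw [Finset.card_erase_of_mem (Finset.mem_erase.2 ⟨h.ne_one, Finset.mem_filter.2
        ⟨Finset.mem_univ _, Subgroup.mem_centralizer_singleton_iff.2 rfl⟩⟩),
      Finset.card_erase_of_mem (Finset.mem_filter.2 ⟨Finset.mem_univ _, one_mem _⟩),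
      ← Fintype.card_subtype, ← Nat.card_eq_fintype_card, h.cent_card]
  have hout : O.card ≤ qBound q a b + twoBound a := by
    rw [← Finset.card_image_of_injective O (mul_left_injective y)]
    refine h.cover_bound hq hq2 hq3 ha hb hcard hburn _ fun u hu => ?_
    obtain ⟨x, hx, rfl⟩ := Finset.mem_image.1 hu
    simp only [hO, sols, Finset.mem_filter, Finset.mem_univ, true_and] at hx
    exact h.triangle_inv hx.1.1 hx.1.2 hx.2
  have e := Finset.card_filter_add_card_filter_not (s := sols y) fun x => x * y = y * x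
  rw [hO] at hout
  convert (e.ge.trans (Nat.add_le_add hin hout)) using 4

open scoped _root_.Classical in
/-- The number of solutions from the characters. -/
theorem Hyp.sols_formula (h : Hyp y) :
    (Nat.card G : ℂ) * ∑ χ : IrrCharacter G,
        conj ((χ : G → ℂ) y) * ((χ : G → ℂ) y * (χ : G → ℂ) y / (χ : G → ℂ) 1) = 81 * (sols y).card := by
  rw [← Solv.ThreeLocal.pairs_formula y y y]
  have hdec : ((Finset.univ : Finset (G × G)).filter fun t =>
      t.1 * y * t.1⁻¹ * (t.2 * y * t.2⁻¹) = y) = (sols y).biUnion fun x =>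
        ((Finset.univ : Finset G).filter fun g => g * y * g⁻¹ = x) ×ˢ
          ((Finset.univ : Finset G).filter fun g => g * y * g⁻¹ = x⁻¹ * y) := by
    ext t
    simp only [sols, Finset.mem_filter, Finset.mem_univ, true_and, Finset.mem_biUnion, Finset.mem_product]
    constructor
    · intro e
      have e2 : t.2 * y * t.2⁻¹ = (t.1 * y * t.1⁻¹)⁻¹ * y := by
        conv_rhs => arg 2; rw [← e]
        group
      exact ⟨_, ⟨isConj_iff.2 ⟨t.1, rfl⟩, e2 ▸ isConj_iff.2 ⟨t.2, rfl⟩⟩, rfl, e2⟩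
    · rintro ⟨x, -, e1, e2⟩
      rw [e1, e2, mul_inv_cancel_left]
  rw [hdec, Finset.card_biUnion]
  · rw [Finset.sum_const_nat fun x hx => ?_, Nat.cast_mul, mul_comm]
    · rw [show ((81 : ℂ)) = ((81 : ℕ) : ℂ) by norm_num]
    simp only [sols, Finset.mem_filter, Finset.mem_univ, true_and] at hx
    rw [Finset.card_product, Solv.ThreeLocal.card_conjugators hx.1, Solv.ThreeLocal.card_conjugators hx.2,
      h.cent_card]
  · intro v _ w _ hvw
    refine Finset.disjoint_left.2 fun t h1 h2 => hvw ?_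
    simp only [Finset.mem_product, Finset.mem_filter, Finset.mem_univ, true_and] at h1 h2
    exact h1.1.symm.trans h2.1

end Cfsg.Agent.Char.OrderNine.OneClass
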