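import Cfsg.Agent.Lib.Char.OrderNine.OneClass.Columns
import Cfsg.Agent.Lib.Char.OrderNine.OneClass.Arith
import Cfsg.Agent.Lib.Classical.Dickson.Tools

/-!
# No simple group of order `9·2ᵃ·qᵇ` has self-centralising elements of order three in one class
-/

set_option autoImplicit false
set_option linter.unusedSectionVars false
set_option linter.style.haveILetI false

namespace Cfsg.Agent.Char.OrderNine.OneClass

open Cfsg
open Cfsg.Agent.Small.Order459648 (oneChar)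
open scoped ComplexConjugate

universe u

variable {G : Type u} [Group G] [Fintype G] [IsSimpleGroup G] {y : G} {c : IrrCharacter G → ℤ}
  {q a b : ℕ}

/-- Each term of the triangle sum. -/
theorem term_ge (c : ℤ) (x : ℕ) (hc : c * c ≤ 8) (hx : 2 ≤ x) (hmod : ((x : ℤ) - c) % 9 = 0)
    (h7 : ¬ (c = -2 ∧ x = 7)) :
    -((c * c : ℤ) : ℚ) / 8 + (if 0 < c then 1 / 8 else 0) ≤ ((c ^ 3 : ℤ) : ℚ) / (x : ℚ) := by
  have hb : c ≤ 2 ∧ -2 ≤ c := ⟨by nlinarith, by nlinarith⟩
  have hxq : (0 : ℚ) < x := by exact_mod_cast (show 0 < x by omega)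
  have hpos : ∀ n : ℚ, 0 ≤ n → (0 : ℚ) ≤ n / x := fun n hn => div_nonneg hn hxq.le
  obtain ⟨hb1, hb2⟩ := hb
  interval_cases c
  · have : 16 ≤ x := by omega
    have h16 : (16 : ℚ) ≤ x := by exact_mod_cast this
    rw [le_div_iff₀ hxq]
    push_cast
    norm_num
    linarith
  · have : 8 ≤ x := by omega
    have h8 : (8 : ℚ) ≤ x := by exact_mod_cast this
    rw [le_div_iff₀ hxq]
    push_cast
    norm_num
    linarith
  · simp
  · have := hpos 1 (by norm_num)
    norm_num at this ⊢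
  · have := hpos 8 (by norm_num)
    norm_num at this ⊢
    linarith

/-- No character of degree seven takes the value minus two. -/
theorem Column.no_seven (hna : ¬ IsMulCommutative G) (h : Hyp y) (hc : Column y c) (hq : q.Prime)
    (hq3 : q ≠ 3) (hb : 2 ≤ b) (hcard : Nat.card G = 9 * 2 ^ a * q ^ b) (χ : IrrCharacter G) :
    ¬ (c χ = -2 ∧ deg (χ : G → ℂ) = 7) := by
  classical
  rintro ⟨hc2, hd⟩
  haveI : Fact (Nat.Prime 7) := ⟨by norm_num⟩
  have hne : χ ≠ oneChar := fun e => by rw [e, hc.one] at hc2; norm_num at hc2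
  have huniq : ∀ ψ : IrrCharacter G, c ψ = -2 → deg (ψ : G → ℂ) = 7 → ψ = χ := by
    intro ψ hc' hd'
    by_contra hψ
    have hψ1 : ψ ≠ oneChar := fun e => by rw [e, hc.one] at hc'; norm_num at hc'
    set R := (((Finset.univ : Finset (IrrCharacter G)).erase oneChar).erase χ).erase ψ with hR
    have m1 : χ ∈ (Finset.univ : Finset (IrrCharacter G)).erase oneChar := Finset.mem_erase.2 ⟨hne, Finset.mem_univ _⟩
    have m2 : ψ ∈ ((Finset.univ : Finset (IrrCharacter G)).erase oneChar).erase χ :=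
      Finset.mem_erase.2 ⟨hψ, Finset.mem_erase.2 ⟨hψ1, Finset.mem_univ _⟩⟩
    have h1 := hc.sum_sq h
    rw [← Finset.add_sum_erase _ _ (Finset.mem_univ (oneChar : IrrCharacter G)), ← Finset.add_sum_erase _ _ m1,
      ← Finset.add_sum_erase _ _ m2, hc.one, hc2, hc'] at h1
    have h0 := (Finset.sum_eq_zero_iff_of_nonneg fun φ _ => mul_self_nonneg (c φ)).1
      (show ∑ φ ∈ R, c φ * c φ = 0 by linarith)
    have h2 := hc.sum_deg h
    rw [← Finset.add_sum_erase _ _ (Finset.mem_univ (oneChar : IrrCharacter G)), ← Finset.add_sum_erase _ _ m1,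
      ← Finset.add_sum_erase _ _ m2, hc.one, hc2, hc', hd, hd', deg_oneChar,
      Finset.sum_eq_zero fun φ hφ => by rw [mul_self_eq_zero.1 (h0 φ hφ), mul_zero]] at h2
    norm_num at h2
  have hrat : ∀ g : G, (∃ j : ℕ, orderOf g = 7 ^ j) → ∃ n : ℤ, (χ : G → ℂ) g = n := by
    intro g _
    refine exists_int_of_fixed (irr_isCharacter χ.2) g fun k hk => ?_
    have he : galChar χ hk = χ := by
      refine huniq _ ?_ ?_
      · have hne' : y ^ k ≠ 1 := fun e => h.ne_one ((powCoprime_bijective hk).1 (e.trans (one_pow k).symm))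
        obtain ⟨t, ht⟩ := isConj_iff.1 (h.one_class (y ^ k)
          (by rw [← pow_mul, mul_comm, pow_mul, h.cube, one_pow]) hne')
        have h1 : ((c (galChar χ hk) : ℤ) : ℂ) = ((c χ : ℤ) : ℂ) := by
          rw [← hc.value, ← hc.value]
          show (χ : G → ℂ) (y ^ k) = _
          rw [← ht, isClassFunction_character (irr_isCharacter χ.2)]
        rw [← hc2]
        exact_mod_cast h1
      · rw [← hd]
        exact charDegree_galChar χ hk
    exact congrArg (fun φ : IrrCharacter G => (φ : G → ℂ) g) he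
  have hf := sylow_prime hna (χ := χ) hd hrat
  have h7 : 7 ∣ Nat.card G := hd ▸ deg_dvd_card χ.2
  rw [hcard] at h7 hf
  have hq7 : q = 7 := by
    rcases (Nat.Prime.dvd_mul (by norm_num)).1 h7 with d | d
    · rcases (Nat.Prime.dvd_mul (by norm_num)).1 d with d | d
      · norm_num at d
      · have := (Nat.prime_dvd_prime_iff_eq (by norm_num) Nat.prime_two).1 ((by norm_num : Nat.Prime 7).dvd_of_dvd_pow d)
        omega
    · exact ((Nat.prime_dvd_prime_iff_eq (by norm_num) hq).1 ((by norm_num : Nat.Prime 7).dvd_of_dvd_pow d)).symm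
  subst hq7
  rw [Nat.factorization_mul (by positivity) (by positivity), Finsupp.add_apply, hq.factorization_pow,
    Finsupp.single_eq_same] at hf
  omega

/-- The lower bound of the triangle sum. -/
theorem Column.sigma_ge (hna : ¬ IsMulCommutative G) (h : Hyp y) (hc : Column y c)
    (h7 : ∀ χ : IrrCharacter G, ¬ (c χ = -2 ∧ deg (χ : G → ℂ) = 7)) :
    (1 / 8 : ℚ) ≤ ∑ χ : IrrCharacter G, ((c χ ^ 3 : ℤ) : ℚ) / (deg (χ : G → ℂ) : ℚ) := by
  classical
  have hsq := hc.sum_sq h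
  have hsum := hc.sum_deg h
  set O := (Finset.univ : Finset (IrrCharacter G)).erase oneChar with hO
  rw [← Finset.add_sum_erase _ _ (Finset.mem_univ (oneChar : IrrCharacter G)), hc.one] at hsq
  rw [← Finset.add_sum_erase _ _ (Finset.mem_univ (oneChar : IrrCharacter G)), hc.one, deg_oneChar] at hsum
  rw [← Finset.add_sum_erase _ _ (Finset.mem_univ (oneChar : IrrCharacter G)), hc.one, deg_oneChar]
  obtain ⟨χ₀, hχ₀, hpos⟩ : ∃ χ ∈ O, 0 < c χ := by
    by_contra hno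
    push Not at hno
    obtain ⟨χ, hχ, hne⟩ : ∃ χ ∈ O, c χ ≠ 0 := by
      by_contra hno'
      push Not at hno'
      rw [Finset.sum_eq_zero fun φ hφ => by rw [hno' φ hφ, mul_zero]] at hsum
      norm_num at hsum
    have h2 := Finset.single_le_sum (f := fun φ : IrrCharacter G => -((deg (φ : G → ℂ) : ℤ) * c φ))
      (fun φ hφ => neg_nonneg.2 (mul_nonpos_of_nonneg_of_nonpos (by positivity) (hno φ hφ))) hχ
    rw [Finset.sum_neg_distrib] at h2
    have h3 := (hc.small hna h (Finset.mem_erase.1 hχ).1).2.1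
    have h4 : c χ ≤ -1 := by have := hno χ hχ; omega
    have h5 : ((2 : ℕ) : ℤ) ≤ (deg (χ : G → ℂ) : ℤ) := by exact_mod_cast h3
    push_cast at h5 hsum
    nlinarith
  have hterm : ∀ φ ∈ O, -((c φ * c φ : ℤ) : ℚ) / 8 + (if 0 < c φ then 1 / 8 else 0) ≤
      ((c φ ^ 3 : ℤ) : ℚ) / (deg (φ : G → ℂ) : ℚ) := fun φ hφ => by
    obtain ⟨h1, h2, -⟩ := hc.small hna h (Finset.mem_erase.1 hφ).1
    exact term_ge (c φ) _ h1 h2 (hc.cast_dvd h φ) (h7 φ)
  have h1 := Finset.sum_le_sum hterm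
  rw [Finset.sum_add_distrib, ← Finset.sum_div, Finset.sum_neg_distrib, ← Int.cast_sum,
    show ∑ φ ∈ O, c φ * c φ = 8 by linarith] at h1
  have h2 : (1 / 8 : ℚ) ≤ ∑ φ ∈ O, (if 0 < c φ then (1 / 8 : ℚ) else 0) := by
    refine le_trans ?_ (Finset.single_le_sum (fun φ _ => ?_) hχ₀)
    · rw [if_pos hpos]
    · split_ifs <;> norm_num
  rw [← hO, show (((1 : ℤ) ^ 3 : ℤ) : ℚ) / ((1 : ℕ) : ℚ) = 1 by norm_num]
  rw [show (((8 : ℤ)) : ℚ) = 8 by norm_num] at h1
  linarith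

/-- The triangle sum is the number of solutions. -/
theorem Column.sigma_eq (h : Hyp y) (hc : Column y c) :
    (Nat.card G : ℚ) * ∑ χ : IrrCharacter G, ((c χ ^ 3 : ℤ) : ℚ) / (deg (χ : G → ℂ) : ℚ) =
      81 * (sols y).card := by
  have h1 := h.sols_formula
  rw [Finset.sum_congr rfl fun (χ : IrrCharacter G) _ => show
    conj ((χ : G → ℂ) y) * ((χ : G → ℂ) y * (χ : G → ℂ) y / (χ : G → ℂ) 1) =
      ((((c χ ^ 3 : ℤ) : ℚ) / (deg (χ : G → ℂ) : ℚ) : ℚ) : ℂ) by
    rw [hc.value, char_one_eq_deg (irr_isCharacter χ.2), map_intCast]; push_cast; ring, ← Rat.cast_sum] at h1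
  exact_mod_cast h1

theorem sum_pairs {ι M : Type*} [AddCommMonoid M] (s : Finset ι) (pr : ι → ℤ × ℕ)
    (hs : ∀ i ∈ s, pr i ∈ pairs) (f : ℤ × ℕ → M) :
    ∑ i ∈ s, f (pr i) = (pairs.map fun p => (s.filter fun i => pr i = p).card • f p).sum := by
  rw [← List.sum_toFinset _ (by decide : pairs.Nodup),
    ← Finset.sum_fiberwise_of_maps_to' (fun i hi => List.mem_toFinset.2 (hs i hi))]
  exact Finset.sum_congr rfl fun p _ => Finset.sum_const _

/-- The group of order 72000. -/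
theorem Column.no_72000 (hna : ¬ IsMulCommutative G) (h : Hyp y) (hc : Column y c)
    (hcard : Nat.card G = 72000) (hσ : (sols y).card ≤ 439) : False := by
  classical
  haveI : Fact (Nat.Prime 2) := ⟨Nat.prime_two⟩
  obtain ⟨B, hB1, hBex, hBd⟩ := hc.block hna h (p := 2) (by norm_num) (e := 6) (m := 1125)
    (by rw [hcard]; norm_num) (by norm_num) (by norm_num)
  set s := ((Finset.univ : Finset (IrrCharacter G)).erase oneChar).filter fun χ => c χ ≠ 0 with hs
  set pr : IrrCharacter G → ℤ × ℕ := fun χ => (c χ, deg (χ : G → ℂ)) with hpr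
  have hdd : ∀ χ ∈ s, 8000 % deg (χ : G → ℂ) = 0 := fun χ hχ => by
    obtain ⟨hχ1, hχ0⟩ := Finset.mem_filter.1 hχ
    obtain ⟨-, -, h3⟩ := hc.small hna h (Finset.mem_erase.1 hχ1).1
    refine Nat.mod_eq_zero_of_dvd ?_ |>.trans rfl
    refine Nat.Coprime.dvd_of_dvd_mul_left (?_ : Nat.Coprime _ 9) (by
      rw [show 9 * 8000 = Nat.card G by rw [hcard]]
      exact deg_dvd_card χ.2)
    rw [show (9 : ℕ) = 3 ^ 2 from rfl]
    exact ((Nat.prime_three.coprime_iff_not_dvd.2 (h3 hχ0)).symm).pow_right 2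
  have hmem : ∀ χ ∈ s, pr χ ∈ pairs := fun χ hχ => by
    obtain ⟨hχ1, hχ0⟩ := Finset.mem_filter.1 hχ
    obtain ⟨hsq, h2, -⟩ := hc.small hna h (Finset.mem_erase.1 hχ1).1
    have hlt : deg (χ : G → ℂ) < 269 := by
      by_contra hge
      have h1 := Finset.single_le_sum (f := fun φ : IrrCharacter G => (deg (φ : G → ℂ) : ℤ) * deg (φ : G → ℂ))
        (fun φ _ => mul_self_nonneg _) (Finset.mem_univ χ)
      rw [Solv.ThreeLocal.sum_deg_sq, hcard] at h1
      have h5 : ((269 : ℕ) : ℤ) ≤ (deg (χ : G → ℂ) : ℤ) := by exact_mod_cast (not_lt.1 hge)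
      push_cast at h1 h5
      nlinarith
    obtain ⟨k, hk⟩ := hc.congr h χ
    have hb : c χ ≤ 2 ∧ -2 ≤ c χ := ⟨by nlinarith, by nlinarith⟩
    refine allowed ⟨_, hlt⟩ (c χ) ?_ h2 (hdd χ hχ) (hc.cast_dvd h χ) ?_
    · simp only [List.mem_cons, List.not_mem_nil, or_false]
      omega
    · show (0 : ℤ) ≤ (deg (χ : G → ℂ) : ℤ) + 8 * c χ
      omega
  let n : ℤ × ℕ → ℕ := fun p => (s.filter fun χ => pr χ = p).card
  let m : ℤ × ℕ → ℕ := fun p => ((s.filter fun χ => χ ∈ B).filter fun χ => pr χ = p).card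
  have hm2 : ∀ p : ℤ × ℕ, isTwo p.2 = true → m p = 0 := fun p hp => by
    simp only [m, Finset.card_eq_zero, Finset.filter_eq_empty_iff]
    intro χ hχ e
    obtain ⟨hχs, hχB⟩ := Finset.mem_filter.1 hχ
    refine hBex χ (Finset.mem_erase.1 (Finset.mem_filter.1 hχs).1).1 ?_ hχB
    have e2 : deg (χ : G → ℂ) = p.2 := congrArg Prod.snd e
    simp only [isTwo, Bool.or_eq_true, beq_iff_eq] at hp
    rcases hp with ((e' | e') | e') | e' <;> rw [e2, e']
    exacts [⟨1, rfl⟩, ⟨3, rfl⟩, ⟨4, rfl⟩, ⟨6, rfl⟩]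
  have hzero : ∀ (f : ℤ → ℕ → ℤ), (∀ x, f 0 x = 0) → ∀ T : Finset (IrrCharacter G),
      ∑ χ ∈ T.erase oneChar, f (c χ) (deg (χ : G → ℂ)) =
        ∑ χ ∈ (s.filter fun χ => χ ∈ T), f (c χ) (deg (χ : G → ℂ)) := by
    intro f hf T
    refine (Finset.sum_subset (fun χ hχ => ?_) fun χ hχ hn => ?_).symm
    · obtain ⟨hs', hT⟩ := Finset.mem_filter.1 hχ
      exact Finset.mem_erase.2 ⟨(Finset.mem_erase.1 (Finset.mem_filter.1 hs').1).1, hT⟩
    · obtain ⟨h1, hT⟩ := Finset.mem_erase.1 hχ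
      have : c χ = 0 := by
        by_contra h0
        exact hn (Finset.mem_filter.2 ⟨Finset.mem_filter.2 ⟨Finset.mem_erase.2 ⟨h1, Finset.mem_univ _⟩, h0⟩, hT⟩)
      rw [this, hf]
  have hall : (s.filter fun χ => χ ∈ (Finset.univ : Finset (IrrCharacter G))) = s :=
    Finset.filter_true_of_mem fun χ _ => Finset.mem_univ χ
  have h1 := hc.sum_sq h
  rw [← Finset.add_sum_erase _ _ (Finset.mem_univ (oneChar : IrrCharacter G)), hc.one,
    hzero (fun c _ => c * c) (fun _ => rfl) Finset.univ, hall] at h1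
  have h2 := hc.sum_deg h
  rw [← Finset.add_sum_erase _ _ (Finset.mem_univ (oneChar : IrrCharacter G)), hc.one, deg_oneChar,
    hzero (fun c x => (x : ℤ) * c) (fun _ => mul_zero _) Finset.univ, hall] at h2
  have h3 := hBd
  rw [← Finset.add_sum_erase _ _ hB1, hc.one, deg_oneChar,
    hzero (fun c x => (x : ℤ) * c) (fun _ => mul_zero _) B] at h3
  have h4 := hc.sigma_eq h
  rw [hcard] at h4
  have hw : 8 = (pairs.map fun p => n p * p.1.natAbs ^ 2).sum := by
    have := sum_pairs s pr hmem (fun p => p.1.natAbs ^ 2)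
    simp only [smul_eq_mul] at this
    rw [← this]
    have e : ((∑ χ ∈ s, (pr χ).1.natAbs ^ 2 : ℕ) : ℤ) = ∑ χ ∈ s, c χ * c χ := by
      push_cast
      exact Finset.sum_congr rfl fun χ _ => by rw [sq_abs, pow_two]
    omega
  have hsum : (1 : ℤ) + (pairs.map fun p => (n p : ℤ) * (p.1 * p.2)).sum = 0 := by
    have := sum_pairs s pr hmem (fun p => p.1 * (p.2 : ℤ))
    simp only [nsmul_eq_mul] at this
    rw [← this]
    have e : ∑ χ ∈ s, (pr χ).1 * ((pr χ).2 : ℤ) = ∑ χ ∈ s, (deg (χ : G → ℂ) : ℤ) * c χ :=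
      Finset.sum_congr rfl fun χ _ => mul_comm _ _
    push_cast at h2 ⊢
    linarith
  have hS : (8000 : ℤ) + (pairs.map fun p => (n p : ℤ) * (p.1 ^ 3 * ((8000 / p.2 : ℕ) : ℤ))).sum ≤ 3951 := by
    have := sum_pairs s pr hmem (fun p => p.1 ^ 3 * ((8000 / p.2 : ℕ) : ℤ))
    simp only [nsmul_eq_mul] at this
    rw [← this]
    set S' := ∑ χ ∈ s, (pr χ).1 ^ 3 * ((8000 / (pr χ).2 : ℕ) : ℤ) with hS'
    have hsub : ∑ χ : IrrCharacter G, ((c χ ^ 3 : ℤ) : ℚ) / (deg (χ : G → ℂ) : ℚ) =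
        1 + ∑ χ ∈ s, ((c χ ^ 3 : ℤ) : ℚ) / (deg (χ : G → ℂ) : ℚ) := by
      rw [← Finset.add_sum_erase _ _ (Finset.mem_univ (oneChar : IrrCharacter G)), hc.one, deg_oneChar]
      congr 1
      · norm_num
      · refine (Finset.sum_subset (Finset.filter_subset _ _) fun χ hχ hn => ?_).symm
        have : c χ = 0 := by
          by_contra h0
          exact hn (Finset.mem_filter.2 ⟨hχ, h0⟩)
        rw [this]
        simp
    have hS2 : (8000 : ℚ) * ∑ χ ∈ s, ((c χ ^ 3 : ℤ) : ℚ) / (deg (χ : G → ℂ) : ℚ) = (S' : ℚ) := by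
      rw [hS', Int.cast_sum, Finset.mul_sum]
      refine Finset.sum_congr rfl fun χ hχ => ?_
      have hd := Nat.dvd_of_mod_eq_zero (hdd χ hχ)
      have hne : (deg (χ : G → ℂ) : ℚ) ≠ 0 := Nat.cast_ne_zero.2 (deg_pos χ.2).ne'
      simp only [pr, Int.cast_mul, Int.cast_natCast, Int.cast_pow]
      rw [Nat.cast_div hd hne]
      push_cast
      ring
    have hS3 : ((8000 + S' : ℤ) : ℚ) ≤ ((3951 : ℤ) : ℚ) := by
      push_cast
      rw [hsub, mul_add] at h4
      push_cast at h4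
      push_cast at hS2
      have : ((sols y).card : ℚ) ≤ 439 := by exact_mod_cast hσ
      linarith
    exact_mod_cast hS3
  have hkill := kill_sound n m (fun p => Finset.card_le_card (Finset.filter_subset_filter _ (Finset.filter_subset _ _)))
    hm2 pairs 8 1 8000 1 [1] (by decide) kill_pairs (List.mem_singleton_self _) hw hsum hS
  refine hkill ?_
  have := sum_pairs (s.filter fun χ => χ ∈ B) pr (fun χ hχ => hmem χ (Finset.mem_filter.1 hχ).1)
    (fun p => p.1 * (p.2 : ℤ))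
  simp only [nsmul_eq_mul] at this
  rw [← this]
  have e : ∑ χ ∈ s.filter (fun χ => χ ∈ B), (pr χ).1 * ((pr χ).2 : ℤ) =
      ∑ χ ∈ s.filter (fun χ => χ ∈ B), (deg (χ : G → ℂ) : ℤ) * c χ :=
    Finset.sum_congr rfl fun χ _ => mul_comm _ _
  refine Int.emod_eq_zero_of_dvd ?_
  rw [e]
  norm_num at h3 ⊢
  exact h3

/-- The contradiction. -/
theorem no_one_class (hna : ¬ IsMulCommutative G) (h : Hyp y) (hq : q.Prime) (hq2 : q ≠ 2) (hq3 : q ≠ 3)
    (hb : 1 ≤ b) (hcard : Nat.card G = 9 * 2 ^ a * q ^ b) (ha : 3 ≤ a) (hmod : 2 ^ a * q ^ b % 9 = 8) :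
    False := by
  classical
  haveI : Fact (Nat.Prime 2) := ⟨Nat.prime_two⟩
  haveI := Fact.mk hq
  obtain ⟨c, hc⟩ := h.exists_column
  obtain ⟨χq, l, hχq, hcq, hdq, hl1, hlb, hl9, hll⟩ := hc.exists_q_pow hna h hq hcard
  -- exponent one
  rcases hb.eq_or_lt with hb1 | hb2
  · rw [← hb1] at hlb hcard hmod
    have hl : l = 1 := by omega
    rw [hl, pow_one] at hl9
    have h10 : 10 < q := by
      by_contra hle
      have := hq.two_le
      interval_cases q <;> revert hq hl9 hq2 hq3 <;> norm_num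
    obtain ⟨e⟩ := big_case hna hq h10 (by rw [hcard, pow_one])
    haveI : Fact (Nat.Prime 17) := ⟨by norm_num⟩
    have hc' := Classical.Dickson.card_psl (ZMod 17)
    rw [← Nat.card_congr e.toEquiv, hcard, pow_one, ZMod.card] at hc'
    rw [pow_one] at hmod
    norm_num at hc'
    have : 2 ^ a * q = 272 := by
      have e2 : 9 * (2 ^ a * q) = 9 * 2 ^ a * q := by ring
      omega
    omega
  have hburn := hc.burn hna h hq hq2 hq3 hcard
  have h7 := fun χ => hc.no_seven hna h hq hq3 hb2 hcard χ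
  obtain ⟨χt, i, hχt, hct, hdt⟩ := hc.exists_two_pow hna h hq hcard
  have hq' : ¬ q ∣ 9 * 2 ^ a := fun hd => by
    rcases hq.dvd_mul.1 hd with d | d
    · exact hq3 ((Nat.prime_dvd_prime_iff_eq hq Nat.prime_three).1 (hq.dvd_of_dvd_pow (show q ∣ 3 ^ 2 from d)))
    · exact hq2 ((Nat.prime_dvd_prime_iff_eq hq Nat.prime_two).1 (hq.dvd_of_dvd_pow d))
  have h2' : ¬ 2 ∣ 9 * q ^ b := fun hd => by
    rcases Nat.prime_two.dvd_mul.1 hd with d | d
    · norm_num at d
    · exact hq2 ((Nat.prime_dvd_prime_iff_eq Nat.prime_two hq).1 (Nat.prime_two.dvd_of_dvd_pow d)).symm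
  have hG2 : Nat.card G = 2 ^ a * (9 * q ^ b) := by rw [hcard]; ring
  have hGq : Nat.card G = q ^ b * (9 * 2 ^ a) := by rw [hcard]; ring
  obtain ⟨B2, m1, m2, m3⟩ := hc.block hna h (p := 2) (by norm_num) hG2 h2' (by omega)
  obtain ⟨Bq, n1, n2, n3⟩ := hc.block hna h (p := q) hq3 hGq hq' hb
  have i2 := hc.ineq h m1 (m2 χt hχt ⟨i, hdt⟩) hct (n := 2 ^ a) (by exact_mod_cast m3)
  have iq := hc.ineq h n1 (n2 χq hχq ⟨l, hdq⟩) hcq (n := q ^ b) (by exact_mod_cast n3)
  rw [hcard] at i2 iq hll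
  have e1 : 2 ^ a ≤ 20 * q ^ b := Nat.le_of_mul_le_mul_left (show (9 * 2 ^ a) * 2 ^ a ≤ (9 * 2 ^ a) * (20 * q ^ b) by
    calc (9 * 2 ^ a) * 2 ^ a = 9 * (2 ^ a * 2 ^ a) := by ring
      _ ≤ 20 * (9 * 2 ^ a * q ^ b) := i2
      _ = _ := by ring) (by positivity)
  have e2 : q ^ b ≤ 20 * 2 ^ a := Nat.le_of_mul_le_mul_left (show (9 * q ^ b) * q ^ b ≤ (9 * q ^ b) * (20 * 2 ^ a) by
    calc (9 * q ^ b) * q ^ b = 9 * (q ^ b * q ^ b) := by ring
      _ ≤ 20 * (9 * 2 ^ a * q ^ b) := iq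
      _ = _ := by ring) (Nat.mul_pos (by norm_num) (pow_pos hq.pos b))
  have hN := h.sols_bound hq hq2 hq3 ha hb hcard hburn
  have hσ := hc.sigma_ge hna h h7
  have hσe := hc.sigma_eq h
  have hcount : 2 ^ a * q ^ b ≤ 72 * (sols y).card := by
    have h1 : ((Nat.card G : ℕ) : ℚ) * (1 / 8) ≤ 81 * (sols y).card :=
      (mul_le_mul_of_nonneg_left hσ (by positivity)).trans hσe.le
    have h2 : ((2 ^ a * q ^ b : ℕ) : ℚ) ≤ ((72 * (sols y).card : ℕ) : ℚ) := by
      rw [hcard] at h1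
      push_cast at h1 ⊢
      linarith
    exact_mod_cast h2
  obtain ⟨rfl, rfl, rfl⟩ := arith_case hq hq2 hq3 ha hb2 hmod e1 e2
    (hcount.trans (Nat.mul_le_mul le_rfl hN))
    ⟨l, hl1, hlb, hl9, by rw [← mul_assoc]; exact hll⟩
  refine hc.no_72000 hna h (by rw [hcard]; norm_num) (hN.trans ?_)
  decide

end Cfsg.Agent.Char.OrderNine.OneClass
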