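import Cfsg.Agent.Lib.Char.OrderNine.OneClass.A5
import Cfsg.Agent.Lib.Solv.ThompsonFPF
import Cfsg.Agent.Lib.Lead.JankoRee.Aut
import Cfsg.Agent.S3331

/-!
# Subgroups of order prime to three normalised by an element of order three

`G` is simple, all elements of order three are conjugate, and their centralisers are elementary
abelian of order nine.
-/

set_option autoImplicit false
set_option linter.unusedSectionVars false
set_option linter.style.haveILetI false

namespace Cfsg.Agent.Char.OrderNine.OneClass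

universe u

variable {G : Type u} [Group G] [Finite G]

/-- The hypothesis on an element of order three. -/
structure Hyp (y : G) : Prop where
  cube : y ^ 3 = 1
  ne_one : y ≠ 1
  one_class : ∀ w : G, w ^ 3 = 1 → w ≠ 1 → IsConj y w
  cent_card : Nat.card (Subgroup.centralizer ({y} : Set G)) = 9
  cent_cube : ∀ w : G, w * y = y * w → w ^ 3 = 1

/-- A subgroup of order prime to three normalised by `y`. -/
def Inv (y : G) (X : Subgroup G) : Prop :=
  y ∈ Subgroup.normalizer (X : Set G) ∧ ¬ 3 ∣ Nat.card X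

/-- A maximal one. -/
def IsMaxInv (y : G) (X : Subgroup G) : Prop :=
  Inv y X ∧ X ≠ ⊥ ∧ ∀ Y, Inv y Y → X ≤ Y → Y = X

variable {y : G}

theorem regroup {M : Type*} [CommMonoid M] (a p q r s t c : M) :
    a ^ 3 * (p * q * r) * (s * t * c) = a * p * s * (a * q * c) * (a * r * t) := by
  rw [pow_succ, pow_two]
  ac_rfl

theorem conj_mem {X : Subgroup G} {g : G} (hg : g ∈ Subgroup.normalizer (X : Set G)) {x : G}
    (hx : x ∈ X) : g * x * g⁻¹ ∈ X := (Subgroup.mem_normalizer_iff.1 hg x).1 hx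

theorem Hyp.of_conj (h : Hyp y) (g : G) : Hyp (g * y * g⁻¹) where
  cube := by rw [conj_pow, h.cube]; group
  ne_one e := h.ne_one (conj_eq_one_iff.1 e)
  one_class w hw hw1 := (isConj_iff.2 ⟨g, rfl⟩ : IsConj y (g * y * g⁻¹)).symm.trans (h.one_class w hw hw1)
  cent_card := by
    rw [← h.cent_card]
    refine (Nat.card_congr ((MulAut.conj g).toEquiv.subtypeEquiv fun x => ?_)).symm
    simp only [MulEquiv.toEquiv_eq_coe, EquivLike.coe_coe, MulAut.conj_apply,
      Subgroup.mem_centralizer_singleton_iff]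
    constructor
    · intro e
      calc g * x * g⁻¹ * (g * y * g⁻¹) = g * (x * y) * g⁻¹ := by group
        _ = g * (y * x) * g⁻¹ := by rw [e]
        _ = _ := by group
    · intro e
      refine mul_left_cancel (a := g) (mul_right_cancel (b := g⁻¹) ?_)
      calc g * (x * y) * g⁻¹ = g * x * g⁻¹ * (g * y * g⁻¹) := by group
        _ = g * y * g⁻¹ * (g * x * g⁻¹) := e
        _ = _ := by group
  cent_cube w hw := by
    have h1 := h.cent_cube (g⁻¹ * w * g) (by
      calc g⁻¹ * w * g * y = g⁻¹ * (w * (g * y * g⁻¹)) * g := by group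
        _ = g⁻¹ * (g * y * g⁻¹ * w) * g := by rw [hw]
        _ = _ := by group)
    calc w ^ 3 = g * (g⁻¹ * w * g) ^ 3 * g⁻¹ := by
          rw [← conj_pow]; congr 1; group
      _ = 1 := by rw [h1]; group

theorem Hyp.orderOf_eq (h : Hyp y) : orderOf y = 3 := orderOf_eq_prime h.cube h.ne_one

theorem eq_one_of_cube {X : Subgroup G} (h3 : ¬ 3 ∣ Nat.card X) {x : G} (hx : x ∈ X) (hx3 : x ^ 3 = 1) :
    x = 1 := by
  have h1 : orderOf x ∣ 3 := orderOf_dvd_of_pow_eq_one hx3
  rcases (Nat.dvd_prime Nat.prime_three).1 h1 with e | e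
  · exact orderOf_eq_one_iff.1 e
  · exact absurd (e ▸ Subgroup.orderOf_dvd_natCard X hx) h3

/-- An element of order three centralises no non-trivial element of a subgroup of order prime to three. -/
theorem Hyp.eq_one_of_commute (h : Hyp y) {X : Subgroup G} (h3 : ¬ 3 ∣ Nat.card X) {u w : G}
    (hu : u ∈ X) (hw : w ^ 3 = 1) (hw1 : w ≠ 1) (hc : u * w = w * u) : u = 1 := by
  obtain ⟨g, hg⟩ := isConj_iff.1 (h.one_class w hw hw1)
  subst hg
  exact eq_one_of_cube h3 hu ((h.of_conj g).cent_cube u hc)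

theorem Hyp.fixed_eq_one (h : Hyp y) {X : Subgroup G} (hX : Inv y X) {x : G} (hx : x ∈ X)
    (hc : x * y = y * x) : x = 1 := h.eq_one_of_commute hX.2 hx h.cube h.ne_one hc

theorem Hyp.inf_cent (h : Hyp y) {X : Subgroup G} (hX : Inv y X) :
    X ⊓ Subgroup.centralizer {y} = ⊥ :=
  (Subgroup.eq_bot_iff_forall _).2 fun _ hx =>
    h.fixed_eq_one hX hx.1 (Subgroup.mem_centralizer_singleton_iff.1 hx.2)

theorem Hyp.nilpotent (h : Hyp y) {X : Subgroup G} (hX : Inv y X) : Group.IsNilpotent X :=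
  Solv.fpf_nilpotent X y Nat.prime_three h.cube hX.1 (h.inf_cent hX)

/-- The order is one modulo three. -/
theorem Hyp.card_mod_three (h : Hyp y) {X : Subgroup G} (hX : Inv y X) : Nat.card X % 3 = 1 := by
  classical
  let H := Subgroup.zpowers y
  have hH : H ≤ Subgroup.normalizer (X : Set G) := Subgroup.zpowers_le.2 hX.1
  letI : MulAction H X :=
    { smul := fun k x => ⟨(k : G) * x * (k : G)⁻¹, conj_mem (hH k.2) x.2⟩
      one_smul := fun x => Subtype.ext (by show ((1 : H) : G) * x * ((1 : H) : G)⁻¹ = x; simp)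
      mul_smul := fun a b x => Subtype.ext (by
        show ((a * b : H) : G) * x * ((a * b : H) : G)⁻¹ = (a : G) * ((b : G) * x * (b : G)⁻¹) * (a : G)⁻¹
        rw [Subgroup.coe_mul]; group) }
  haveI : Fact (Nat.Prime 3) := ⟨Nat.prime_three⟩
  have hp : IsPGroup 3 H := IsPGroup.of_card (n := 1) (by rw [Nat.card_zpowers, h.orderOf_eq, pow_one])
  have hfix : MulAction.fixedPoints H X = {1} := by
    ext x
    constructor
    · intro hx
      have h1 : y * (x : G) * y⁻¹ = x := congrArg Subtype.val (hx ⟨y, Subgroup.mem_zpowers y⟩)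
      exact Subtype.ext (h.fixed_eq_one hX x.2 (mul_inv_eq_iff_eq_mul.1 h1).symm)
    · rintro rfl k
      exact Subtype.ext (by show (k : G) * ((1 : X) : G) * (k : G)⁻¹ = ((1 : X) : G); simp)
  have := hp.card_modEq_card_fixedPoints X
  rw [hfix, Nat.card_coe_set_eq, Set.ncard_singleton] at this
  exact this

theorem Hyp.card_quotient_mod_three (h : Hyp y) {X Y : Subgroup G} (hX : Inv y X) (hY : Inv y Y) {m : ℕ}
    (hm : Nat.card Y = m * Nat.card X) : m % 3 = 1 := by
  have h1 := h.card_mod_three hY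
  rw [hm, Nat.mul_mod, h.card_mod_three hX, mul_one, Nat.mod_mod] at h1
  exact h1

theorem card_sup_dvd_mul {X Y : Subgroup G} (hn : Y ≤ Subgroup.normalizer (X : Set G)) :
    Nat.card (X ⊔ Y : Subgroup G) ∣ Nat.card X * Nat.card Y := by
  set K := X ⊔ Y with hK
  haveI : (X.subgroupOf K).Normal := Subgroup.normal_subgroupOf_of_le_normalizer (sup_le Subgroup.le_normalizer hn)
  have h2 := Fusion.card_sup_dvd (X.subgroupOf K) (Y.subgroupOf K)
  have htop : Y.subgroupOf K ⊔ X.subgroupOf K = ⊤ := by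
    rw [← Subgroup.subgroupOf_sup le_sup_right le_sup_left]
    exact Subgroup.subgroupOf_eq_top.2 (le_of_eq (sup_comm X Y))
  rw [htop, Subgroup.card_top, mul_comm (Nat.card (Y.subgroupOf K)),
    Nat.card_congr (Subgroup.subgroupOfEquivOfLe le_sup_left).toEquiv,
    Nat.card_congr (Subgroup.subgroupOfEquivOfLe le_sup_right).toEquiv] at h2
  exact h2

theorem mem_normalizer_sup {X Y : Subgroup G} {g : G} (hX : g ∈ Subgroup.normalizer (X : Set G))
    (hY : g ∈ Subgroup.normalizer (Y : Set G)) : g ∈ Subgroup.normalizer ((X ⊔ Y : Subgroup G) : Set G) := by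
  refine Solv.mem_normalizer_of_map_conj ?_
  rw [Subgroup.map_sup, Solv.map_conj_of_mem hX, Solv.map_conj_of_mem hY]

theorem Inv.sup {X Y : Subgroup G} (hX : Inv y X) (hY : Inv y Y)
    (hn : Y ≤ Subgroup.normalizer (X : Set G)) : Inv y (X ⊔ Y) :=
  ⟨mem_normalizer_sup hX.1 hY.1, fun h3 =>
    (Nat.prime_three.dvd_mul.1 (h3.trans (card_sup_dvd_mul hn))).elim hX.2 hY.2⟩

theorem IsMaxInv.le_of {X : Subgroup G} (hX : IsMaxInv y X) {Y : Subgroup G} (hY : Inv y Y)
    (hn : Y ≤ Subgroup.normalizer (X : Set G)) : Y ≤ X :=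
  le_sup_right.trans (hX.2.2 _ (hX.1.sup hY hn) le_sup_left).le

/-- Every subgroup in question lies in a maximal one. -/
theorem exists_max {A : Subgroup G} (hA : Inv y A) (hA1 : A ≠ ⊥) :
    ∃ X, IsMaxInv y X ∧ A ≤ X := by
  obtain ⟨X, hX, hmax⟩ := Set.Finite.exists_maximal (s := {Y : Subgroup G | Inv y Y ∧ A ≤ Y})
    (Set.toFinite _) ⟨A, hA, le_rfl⟩
  refine ⟨X, ⟨hX.1, fun e => hA1 (le_bot_iff.1 (e ▸ hX.2)), fun Y hY hXY => ?_⟩, hX.2⟩
  exact le_antisymm (hmax ⟨hY, hX.2.trans hXY⟩ hXY) hXY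

theorem Hyp.inv_ne_top (h : Hyp y) {X : Subgroup G} (hX : Inv y X) : X ≠ ⊤ := fun e =>
  hX.2 (h.orderOf_eq ▸ (Subgroup.orderOf_dvd_natCard X (e ▸ Subgroup.mem_top y)))

theorem Hyp.normalizer_ne_top [IsSimpleGroup G] (h : Hyp y) {X : Subgroup G} (hX : Inv y X) (hX1 : X ≠ ⊥) :
    Subgroup.normalizer (X : Set G) ≠ ⊤ := fun e =>
  ((Subgroup.normalizer_eq_top_iff.1 e).eq_bot_or_eq_top).elim hX1 (h.inv_ne_top hX)

/-- The centraliser of `y` meets a local subgroup in `⟨y⟩`. -/
theorem Hyp.cent_local (h : Hyp y) {X : Subgroup G} (hX : Inv y X) (hX1 : X ≠ ⊥) :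
    Nat.card (Subgroup.centralizer ({y} : Set G) ⊓ Subgroup.normalizer (X : Set G) : Subgroup G) = 3 := by
  classical
  set C := Subgroup.centralizer ({y} : Set G)
  set N := Subgroup.normalizer (X : Set G)
  have hd : Nat.card (C ⊓ N : Subgroup G) ∣ 3 ^ 2 := by
    have := Subgroup.card_dvd_of_le (inf_le_left : C ⊓ N ≤ C)
    rwa [h.cent_card] at this
  have hy : y ∈ C ⊓ N := ⟨Subgroup.mem_centralizer_singleton_iff.2 rfl, hX.1⟩
  have h3 : 3 ∣ Nat.card (C ⊓ N : Subgroup G) := h.orderOf_eq ▸ Subgroup.orderOf_dvd_natCard _ hy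
  obtain ⟨k, hk, he⟩ := (Nat.dvd_prime_pow Nat.prime_three).1 hd
  interval_cases k
  · rw [he] at h3; norm_num at h3
  · exact he
  exfalso
  -- the centraliser normalises `X`
  have hCN : C ≤ N := by
    have := Subgroup.eq_of_le_of_card_ge (inf_le_left : C ⊓ N ≤ C) (by rw [he, h.cent_card]; norm_num)
    exact this ▸ inf_le_right
  haveI : Fact (Nat.Prime 3) := ⟨Nat.prime_three⟩
  have hZ : ∃ z ∈ X, z ≠ 1 ∧ ∀ x ∈ X, z * x = x * z := by
    haveI := h.nilpotent hX
    haveI : Nontrivial X := X.nontrivial_iff_ne_bot.2 hX1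
    haveI : Nontrivial (Subgroup.center X) :=
      (Subgroup.nontrivial_iff_ne_bot _).2 (Group.IsNilpotent.center_ne_bot X)
    obtain ⟨z, hz⟩ := exists_ne (1 : Subgroup.center X)
    exact ⟨(z : X), (z : X).2, fun e => hz (Subtype.ext (Subtype.ext e)), fun x hx =>
      (congrArg Subtype.val (Subgroup.mem_center_iff.1 z.2 ⟨x, hx⟩)).symm⟩
  obtain ⟨z, hz, hz1, hzc⟩ := hZ
  -- a second generator
  obtain ⟨w, hw, hwy⟩ : ∃ w ∈ C, w ∉ Subgroup.zpowers y := by
    by_contra hno
    push Not at hno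
    have := Subgroup.card_le_of_le (show C ≤ Subgroup.zpowers y from hno)
    rw [h.cent_card, Nat.card_zpowers, h.orderOf_eq] at this
    omega
  have hwy' : w * y = y * w := Subgroup.mem_centralizer_singleton_iff.1 hw
  have hcz : ∀ g ∈ N, g * z * g⁻¹ ∈ X ∧ ∀ x ∈ X, g * z * g⁻¹ * x = x * (g * z * g⁻¹) := fun g hg =>
    ⟨conj_mem hg hz, fun x hx => by
      have := hzc (g⁻¹ * x * g) (by simpa using conj_mem (N.inv_mem hg) hx)
      calc g * z * g⁻¹ * x = g * (z * (g⁻¹ * x * g)) * g⁻¹ := by group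
        _ = g * (g⁻¹ * x * g * z) * g⁻¹ := by rw [this]
        _ = _ := by group⟩
  let Z := X ⊓ Subgroup.centralizer (X : Set G)
  have memZ : ∀ g ∈ N, g * z * g⁻¹ ∈ Z := fun g hg =>
    ⟨(hcz g hg).1, Subgroup.mem_centralizer_iff.2 fun x hx => ((hcz g hg).2 x hx).symm⟩
  have hab : ∀ a ∈ Z, ∀ b ∈ Z, a * b = b * a := fun a ha b hb =>
    Subgroup.mem_centralizer_iff.1 hb.2 a ha.1
  -- the product over a line is fixed, hence trivial
  have line : ∀ g ∈ C, g ≠ 1 → ∀ t ∈ Z, t * (g * t * g⁻¹) * (g ^ 2 * t * (g ^ 2)⁻¹) = 1 := by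
    intro g hg hg1 t ht
    have hg3 : g ^ 3 = 1 := h.cent_cube g (Subgroup.mem_centralizer_singleton_iff.1 hg)
    have hgN : g ∈ N := hCN hg
    have m1 : g * t * g⁻¹ ∈ X := conj_mem hgN ht.1
    have m2 : g ^ 2 * t * (g ^ 2)⁻¹ ∈ X := conj_mem (N.pow_mem hgN 2) ht.1
    have e3 : g * (g ^ 2 * t * (g ^ 2)⁻¹) * g⁻¹ = t := by
      rw [show g * (g ^ 2 * t * (g ^ 2)⁻¹) * g⁻¹ = g ^ 3 * t * (g ^ 3)⁻¹ by group, hg3]
      group
    have ct : ∀ x ∈ X, t * x = x * t := fun x hx => (Subgroup.mem_centralizer_iff.1 ht.2 x hx).symm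
    refine h.eq_one_of_commute hX.2 (X.mul_mem (X.mul_mem ht.1 m1) m2) hg3 hg1 ?_
    have e4 : g * (t * (g * t * g⁻¹) * (g ^ 2 * t * (g ^ 2)⁻¹)) * g⁻¹ =
        t * (g * t * g⁻¹) * (g ^ 2 * t * (g ^ 2)⁻¹) := by
      calc g * (t * (g * t * g⁻¹) * (g ^ 2 * t * (g ^ 2)⁻¹)) * g⁻¹
          = g * t * g⁻¹ * (g ^ 2 * t * (g ^ 2)⁻¹) * (g * (g ^ 2 * t * (g ^ 2)⁻¹) * g⁻¹) := by group
        _ = g * t * g⁻¹ * (g ^ 2 * t * (g ^ 2)⁻¹) * t := by rw [e3]
        _ = t * (g * t * g⁻¹ * (g ^ 2 * t * (g ^ 2)⁻¹)) := (ct _ (X.mul_mem m1 m2)).symm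
        _ = _ := by group
    exact (mul_inv_eq_iff_eq_mul.1 e4).symm
  haveI : IsMulCommutative Z := ⟨⟨fun a b => Subtype.ext (hab _ a.2 _ b.2)⟩⟩
  letI : CommGroup Z := { (inferInstance : Group Z) with mul_comm := fun a b => Subtype.ext (hab _ a.2 _ b.2) }
  have hy' : y ∈ C := hy.1
  set z' : G → Z := fun g => if hg : g ∈ N then ⟨g * z * g⁻¹, memZ g hg⟩ else 1 with hz'
  have zz : ∀ g ∈ C, (z' g : G) = g * z * g⁻¹ := fun g hg => by simp [z', hCN hg]
  have l1 : ∀ g ∈ C, g ≠ 1 → z' 1 * z' g * z' (g ^ 2) = 1 := fun g hg hg1 => Subtype.ext (by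
    rw [Subgroup.coe_mul, Subgroup.coe_mul, zz 1 (one_mem _), zz g hg, zz _ (pow_mem hg 2), Subgroup.coe_one]
    simpa using line g hg hg1 z ⟨hz, Subgroup.mem_centralizer_iff.2 fun x hx => (hzc x hx).symm⟩)
  have l2 : ∀ g ∈ C, g ≠ 1 → ∀ r ∈ C, z' r * z' (g * r) * z' (g ^ 2 * r) = 1 := fun g hg hg1 r hr =>
    Subtype.ext (by
      rw [Subgroup.coe_mul, Subgroup.coe_mul, zz r hr, zz _ (mul_mem hg hr), zz _ (mul_mem (pow_mem hg 2) hr),
        Subgroup.coe_one, ← line g hg hg1 _ (memZ r (hCN hr))]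
      group)
  have hw1 : w ≠ 1 := fun e => hwy (e ▸ one_mem _)
  have hw2 : w ^ 2 ∉ Subgroup.zpowers y := fun e => hwy (by
    have := Subgroup.pow_mem _ e 2
    rwa [← pow_mul, show 2 * 2 = 3 + 1 from rfl, pow_succ, h.cent_cube w hwy', one_mul] at this)
  have hwy1 : y * w ≠ 1 := fun e => hwy (by rw [eq_inv_of_mul_eq_one_right e]; exact inv_mem (Subgroup.mem_zpowers y))
  have hwy2 : y * w ^ 2 ≠ 1 := fun e => hw2 (by rw [eq_inv_of_mul_eq_one_right e]; exact inv_mem (Subgroup.mem_zpowers y))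
  have hc : Commute w y := hwy'
  have a1 := l1 y hy' h.ne_one
  have a2 := l1 _ (mul_mem hy' hw) hwy1
  have a3 := l1 _ (mul_mem hy' (pow_mem hw 2)) hwy2
  have b1 := l2 w hw hw1 y hy'
  have b2 := l2 w hw hw1 (y ^ 2) (pow_mem hy' 2)
  rw [show (y * w) ^ 2 = w ^ 2 * y ^ 2 by rw [hc.symm.mul_pow, (hc.pow_pow 2 2).eq],
    ← hc.eq] at a2
  rw [show (y * w ^ 2) ^ 2 = w * y ^ 2 by
      rw [(hc.symm.pow_right 2).mul_pow, ← pow_mul, show 2 * 2 = 3 + 1 from rfl, pow_succ w 3,
        h.cent_cube w hwy', one_mul, (hc.pow_right 2).eq], ← (hc.pow_left 2).eq] at a3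
  have e3 : z' 1 ^ 3 = 1 := by
    have : z' 1 ^ 3 * (z' y * z' (w * y) * z' (w ^ 2 * y)) *
        (z' (y ^ 2) * z' (w * y ^ 2) * z' (w ^ 2 * y ^ 2)) =
        z' 1 * z' y * z' (y ^ 2) * (z' 1 * z' (w * y) * z' (w ^ 2 * y ^ 2)) *
          (z' 1 * z' (w ^ 2 * y) * z' (w * y ^ 2)) := by
      exact regroup _ _ _ _ _ _ _
    rw [a1, a2, a3, b1, b2] at this
    simpa using this
  have e4 : z ^ 3 = 1 := by
    have := congrArg Subtype.val e3
    rw [SubgroupClass.coe_pow, zz 1 (one_mem _)] at this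
    simpa using this
  exact hz1 (eq_one_of_cube hX.2 hz e4)

/-- The structure of a local subgroup. -/
theorem Hyp.exists_core [IsSimpleGroup G] (h : Hyp y) {X : Subgroup G} (hX : Inv y X) (hX1 : X ≠ ⊥) :
    ∃ F : Subgroup G, X ≤ F ∧ F ≤ Subgroup.normalizer (X : Set G) ∧
      Subgroup.normalizer (X : Set G) ≤ Subgroup.normalizer (F : Set G) ∧ Inv y F ∧
      (Nat.card (Subgroup.normalizer (X : Set G)) = 3 * Nat.card F ∨
        Nat.card (Subgroup.normalizer (X : Set G)) = 6 * Nat.card F ∨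
        (Nat.card (Subgroup.normalizer (X : Set G)) = 60 * Nat.card F ∧ IsPGroup 2 F ∧
          ∃ K : Subgroup G, F ≤ K ∧ K ≤ Subgroup.normalizer (X : Set G) ∧ Inv y K ∧
            Nat.card K = 4 * Nat.card F)) := by
  classical
  set H := Subgroup.normalizer (X : Set G) with hH
  set yH : H := ⟨y, hX.1⟩ with hyH
  have hord : orderOf yH = 3 := by rw [← Subgroup.orderOf_coe, h.orderOf_eq]
  have hself : Subgroup.centralizer ((Subgroup.zpowers yH : Subgroup H) : Set H) = Subgroup.zpowers yH := by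
    have hle : Subgroup.zpowers yH ≤ Subgroup.centralizer ((Subgroup.zpowers yH : Subgroup H) : Set H) :=
      Subgroup.le_centralizer _
    refine (Subgroup.eq_of_le_of_card_ge hle ?_).symm
    rw [Nat.card_zpowers, hord, ← h.cent_local hX hX1]
    refine Nat.card_le_card_of_injective (fun c => ⟨((c : H) : G), ?_, (c : H).2⟩) fun a b e =>
      Subtype.ext (Subtype.ext (Subtype.mk.inj e))
    exact Subgroup.mem_centralizer_singleton_iff.2
      (congrArg Subtype.val (c.2 yH (Subgroup.mem_zpowers yH))).symm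
  have mk_inv : ∀ (K : Subgroup H), (∀ k ∈ K, yH * k * yH⁻¹ ∈ K) → ¬ 3 ∣ Nat.card K →
      Inv y (K.map H.subtype) := by
    intro K hK h3
    refine ⟨Solv.mem_normalizer_of_map_conj ?_, ?_⟩
    · refine Subgroup.eq_of_le_of_card_ge ?_ (le_of_eq (Subgroup.card_map_of_injective (MulEquiv.injective _)).symm)
      rintro _ ⟨_, ⟨k, hk, rfl⟩, rfl⟩
      exact ⟨_, hK k hk, by simp [yH]⟩
    · rwa [Subgroup.card_map_of_injective H.subtype_injective]
  have hXn : (X.subgroupOf H).Normal := Subgroup.normal_subgroupOf_of_le_normalizer le_rfl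
  have hXH : X ≤ H := Subgroup.le_normalizer
  have cardXH : Nat.card (X.subgroupOf H) = Nat.card X :=
    Nat.card_congr (Subgroup.subgroupOfEquivOfLe hXH).toEquiv
  have hXmap : (X.subgroupOf H).map H.subtype = X := Subgroup.map_subgroupOf_eq_of_le hXH
  have build : ∀ (N : Subgroup H), N.Normal → ¬ 3 ∣ Nat.card N →
      N.map H.subtype ≤ H ∧ H ≤ Subgroup.normalizer ((N.map H.subtype : Subgroup G) : Set G) ∧
        Inv y (N.map H.subtype) ∧ Nat.card (N.map H.subtype) = Nat.card N := by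
    intro N hN h3
    refine ⟨Subgroup.map_subtype_le N, fun g hg => ?_, mk_inv N (fun k hk => hN.conj_mem k hk yH) h3,
      Subgroup.card_map_of_injective H.subtype_injective⟩
    refine Solv.mem_normalizer_of_map_conj ?_
    refine Subgroup.eq_of_le_of_card_ge ?_ (le_of_eq (Subgroup.card_map_of_injective (MulEquiv.injective _)).symm)
    rintro _ ⟨_, ⟨k, hk, rfl⟩, rfl⟩
    exact ⟨_, hN.conj_mem k hk ⟨g, hg⟩, by simp⟩
  rcases S3331.result (Subgroup.zpowers yH) (by rw [Nat.card_zpowers, hord]) hself with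
    ⟨N, hN, -, hcop, htop⟩ | ⟨N, hN, -, hsq, ⟨e⟩⟩ | ⟨e⟩
  · have h3 : ¬ 3 ∣ Nat.card N := (Nat.prime_three.coprime_iff_not_dvd.1 hcop.symm)
    have hidx : N.index = 3 ∨ N.index = 6 := by
      rw [Subgroup.index_eq_card]
      rcases htop with e | e
      · exact Or.inl e
      · obtain ⟨f⟩ := e
        exact Or.inr (by rw [Nat.card_congr f.toEquiv, Nat.card_perm]; simp [Nat.factorial])
    obtain ⟨f1, f2, f3, f4⟩ := build N hN h3
    have hXN : X ≤ N.map H.subtype := by
      have hs : Inv y ((X.subgroupOf H ⊔ N).map H.subtype) := by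
        refine mk_inv _ (fun k hk => (Subgroup.sup_normal (X.subgroupOf H) N).conj_mem k hk yH) fun hd => ?_
        rcases Nat.prime_three.dvd_mul.1 (hd.trans (sup_comm (X.subgroupOf H) N ▸ Fusion.card_sup_dvd (X.subgroupOf H) N)) with d | d
        · exact h3 d
        · exact hX.2 (cardXH ▸ d)
      have hle : N ≤ X.subgroupOf H ⊔ N := le_sup_right
      obtain ⟨t, ht⟩ := Subgroup.card_dvd_of_le hle
      have htm : t % 3 = 1 := h.card_quotient_mod_three f3 hs (m := t) (by
        rw [Subgroup.card_map_of_injective H.subtype_injective, ht, f4, mul_comm])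
      have htd : t ∣ N.index := by
        have := Subgroup.card_subgroup_dvd_card (X.subgroupOf H ⊔ N)
        rw [ht, ← N.card_mul_index] at this
        exact Nat.dvd_of_mul_dvd_mul_left Nat.card_pos this
      have h6 : t ∣ 6 := by rcases hidx with e | e <;> rw [e] at htd <;> [exact htd.trans ⟨2, rfl⟩; exact htd]
      have ht1 : t = 1 := by
        have := Nat.le_of_dvd (by norm_num) h6
        interval_cases t <;> omega
      have heq : X.subgroupOf H ⊔ N = N :=
        (Subgroup.eq_of_le_of_card_ge hle (by rw [ht, ht1, mul_one])).symm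
      rw [← hXmap]
      exact Subgroup.map_mono (le_sup_left.trans heq.le)
    refine ⟨_, hXN, f1, f2, f3, ?_⟩
    rw [f4, ← N.card_mul_index]
    rcases hidx with e | e <;> rw [e]
    · exact Or.inl (mul_comm _ _)
    · exact Or.inr (Or.inl (mul_comm _ _))
  · haveI : IsSimpleGroup (alternatingGroup (Fin 5)) := alternatingGroup.isSimpleGroup (by simp)
    have hp2 : IsPGroup 2 N := fun n => ⟨1, Subtype.ext (by simpa using hsq n n.2)⟩
    have h3 : ¬ 3 ∣ Nat.card N := fun hd => by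
      obtain ⟨k, hk⟩ := IsPGroup.iff_card.1 hp2
      rw [hk] at hd
      exact absurd (Nat.prime_three.dvd_of_dvd_pow hd) (by norm_num)
    have hidx : N.index = 60 := by
      rw [Subgroup.index_eq_card, Nat.card_congr e.toEquiv, nat_card_alternatingGroup]
      simp [Nat.factorial]
    obtain ⟨f1, f2, f3, f4⟩ := build N hN h3
    let φ : H →* alternatingGroup (Fin 5) := e.toMonoidHom.comp (QuotientGroup.mk' N)
    have hφs : Function.Surjective φ := e.surjective.comp (QuotientGroup.mk'_surjective N)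
    have hφk : φ.ker = N := by
      ext x
      simp [φ, MonoidHom.mem_ker]
    have hXN : X ≤ N.map H.subtype := by
      haveI := hXn.map φ hφs
      rcases IsSimpleGroup.eq_bot_or_eq_top_of_normal ((X.subgroupOf H).map φ) inferInstance with e0 | e0
      · rw [Subgroup.map_eq_bot_iff, hφk] at e0
        rw [← hXmap]
        exact Subgroup.map_mono e0
      · exfalso
        have := Subgroup.card_map_dvd (H := X.subgroupOf H) φ
        rw [e0, Subgroup.card_top, nat_card_alternatingGroup, cardXH] at this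
        exact hX.2 (Dvd.dvd.trans (by simp [Nat.factorial]) this)
    have hy3 : φ yH ^ 3 = 1 := by
      rw [← map_pow, show yH ^ 3 = 1 from Subtype.ext (by simpa [yH] using h.cube), map_one]
    have hy1 : φ yH ≠ 1 := fun e1 => h3 (hord ▸ Subgroup.orderOf_dvd_natCard N
      (by rw [← hφk]; exact e1))
    obtain ⟨V, hV4, hVy⟩ := exists_four hy3 hy1
    set K := V.comap φ with hK
    have hKc : Nat.card K = 4 * Nat.card N := by
      have h1 : N ≤ K := hφk ▸ Subgroup.ker_le_comap φ V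
      have h2 : (K.map φ) = V := Subgroup.map_comap_eq_self_of_surjective hφs V
      have h3 := Subgroup.index_comap_of_surjective (H := V) hφs
      have h4 : Nat.card K * K.index = Nat.card H := K.card_mul_index
      have h5 : Nat.card N * N.index = Nat.card H := N.card_mul_index
      have h6 : Nat.card V * V.index = 60 := by
        rw [V.card_mul_index, nat_card_alternatingGroup]; simp [Nat.factorial]
      rw [← hK] at h3
      rw [h3] at h4
      rw [hidx, ← h6, hV4, ← h4] at h5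
      refine Nat.eq_of_mul_eq_mul_right (m := V.index) (Nat.pos_of_ne_zero fun e0 => by rw [e0, mul_zero] at h6; norm_num at h6) ?_
      rw [← h5]; ring
    refine ⟨_, hXN, f1, f2, f3, Or.inr (Or.inr ⟨?_, hp2.map _, K.map H.subtype,
      Subgroup.map_mono (hφk ▸ Subgroup.ker_le_comap φ V), Subgroup.map_subtype_le K,
      mk_inv K (fun k hk => ?_) ?_, ?_⟩)⟩
    · rw [f4, ← N.card_mul_index, hidx, mul_comm]
    · show φ (yH * k * yH⁻¹) ∈ V
      rw [map_mul, map_mul, map_inv]
      exact hVy _ hk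
    · rw [hKc]
      exact fun hd => (Nat.prime_three.dvd_mul.1 hd).elim (by norm_num) h3
    · rw [Subgroup.card_map_of_injective H.subtype_injective, hKc, f4]
  · exfalso
    haveI : Fact (Nat.Prime 7) := ⟨by norm_num⟩
    obtain ⟨f⟩ := e
    haveI := Lead.JankoRee.psl_simple_of_odd (F := ZMod 7) (by rw [ZMod.card]; norm_num)
    haveI : IsSimpleGroup H := f.isSimpleGroup
    rcases IsSimpleGroup.eq_bot_or_eq_top_of_normal (X.subgroupOf H) hXn with e0 | e0
    · refine hX1 ((Subgroup.eq_bot_iff_forall X).2 fun x hx => ?_)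
      have hm : (⟨x, hXH hx⟩ : H) ∈ X.subgroupOf H := Subgroup.mem_subgroupOf.2 hx
      rw [e0, Subgroup.mem_bot] at hm
      exact congrArg Subtype.val hm
    · refine hX.2 ?_
      rw [← cardXH, e0, Subgroup.card_top, ← hord]
      exact orderOf_dvd_natCard yH

/-- The normaliser of a maximal one. -/
theorem Hyp.max_index [IsSimpleGroup G] (h : Hyp y) {X : Subgroup G} (hX : IsMaxInv y X) :
    Nat.card (Subgroup.normalizer (X : Set G)) = 3 * Nat.card X ∨
      Nat.card (Subgroup.normalizer (X : Set G)) = 6 * Nat.card X := by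
  obtain ⟨F, hXF, -, -, hF, hc⟩ := h.exists_core hX.1 hX.2.1
  have e := hX.2.2 F hF hXF
  rw [e] at hc
  rcases hc with c | c | ⟨-, -, K, hXK, -, hK, hKc⟩
  · exact Or.inl c
  · exact Or.inr c
  · rw [hX.2.2 K hK hXK] at hKc
    have := Nat.card_pos (α := X)
    omega

end Cfsg.Agent.Char.OrderNine.OneClass
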