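import Cfsg.Agent.Lib.Char.OrderNine.OneClass.Invariant
import Cfsg.Agent.Lib.Char.GaloisDegrees

/-!
# Two maximal invariant subgroups of index two in a common two-group
-/

set_option autoImplicit false
set_option linter.unusedSectionVars false
set_option linter.style.haveILetI false

open scoped Pointwise

namespace Cfsg.Agent.Char.OrderNine.OneClass

universe u

variable {G : Type u} [Group G] [Finite G] {y : G}

section IndexTwo

variable {A B : Subgroup G}

theorem two_index (hAB : A ≤ B) (h : Nat.card B = 2 * Nat.card A) : (A.subgroupOf B).index = 2 := by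
  have h1 := (A.subgroupOf B).card_mul_index
  rw [Nat.card_congr (Subgroup.subgroupOfEquivOfLe hAB).toEquiv, h, mul_comm 2] at h1
  exact Nat.eq_of_mul_eq_mul_left Nat.card_pos h1

theorem two_mul_mem (hAB : A ≤ B) (h : Nat.card B = 2 * Nat.card A) {a b : G} (ha : a ∈ B) (hb : b ∈ B) :
    a * b ∈ A ↔ (a ∈ A ↔ b ∈ A) := by
  have := Subgroup.mul_mem_iff_of_index_two (two_index hAB h) (a := ⟨a, ha⟩) (b := ⟨b, hb⟩)
  simpa [Subgroup.mem_subgroupOf] using this

theorem two_conj_mem (hAB : A ≤ B) (h : Nat.card B = 2 * Nat.card A) {g : G} (hg : g ∈ B) {x : G}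
    (hx : x ∈ A) : g * x * g⁻¹ ∈ A := by
  rw [two_mul_mem hAB h (B.mul_mem hg (hAB hx)) (B.inv_mem hg), two_mul_mem hAB h hg (hAB hx)]
  simp [hx, inv_mem_iff]

theorem two_le_normalizer (hAB : A ≤ B) (h : Nat.card B = 2 * Nat.card A) :
    B ≤ Subgroup.normalizer (A : Set G) := fun g hg => by
  refine Solv.mem_normalizer_of_map_conj ?_
  refine Subgroup.eq_of_le_of_card_ge ?_ (le_of_eq (Subgroup.card_map_of_injective (MulEquiv.injective _)).symm)
  rintro _ ⟨x, hx, rfl⟩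
  exact two_conj_mem hAB h hg hx

theorem two_comm_mem (hAB : A ≤ B) (h : Nat.card B = 2 * Nat.card A) {a b : G} (ha : a ∈ B) (hb : b ∈ B) :
    a * b * a⁻¹ * b⁻¹ ∈ A := by
  rw [two_mul_mem hAB h (B.mul_mem (B.mul_mem ha hb) (B.inv_mem ha)) (B.inv_mem hb),
    two_mul_mem hAB h (B.mul_mem ha hb) (B.inv_mem ha), two_mul_mem hAB h ha hb, inv_mem_iff, inv_mem_iff]
  tauto

/-- Two distinct subgroups of index two meet in a subgroup of index two in each. -/
theorem two_inf {X : Subgroup G} (hXB : X ≤ B) (hAB : A ≤ B) (h : Nat.card B = 2 * Nat.card A)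
    {v : G} (hv : v ∈ X) (hvA : v ∉ A) : Nat.card X = 2 * Nat.card (X ⊓ A : Subgroup G) := by
  have hidx : ((X ⊓ A).subgroupOf X).index = 2 := by
    refine Subgroup.index_eq_two_iff.2 ⟨⟨v, hv⟩, fun b => ?_⟩
    have := two_mul_mem hAB h (hXB b.2) (hXB hv)
    by_cases hb : (b : G) ∈ A <;>
      simp [Xor, Subgroup.mem_subgroupOf, this, hvA, hb, X.mul_mem b.2 hv]
  have h1 := ((X ⊓ A).subgroupOf X).card_mul_index
  rw [hidx, Nat.card_congr (Subgroup.subgroupOfEquivOfLe inf_le_left).toEquiv] at h1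
  omega

end IndexTwo

/-- The centre, as a subgroup of the group. -/
def Zin (X : Subgroup G) : Subgroup G := X ⊓ Subgroup.centralizer (X : Set G)

theorem mem_Zin {X : Subgroup G} {k : G} : k ∈ Zin X ↔ k ∈ X ∧ ∀ x ∈ X, k * x = x * k :=
  ⟨fun h => ⟨h.1, fun x hx => (Subgroup.mem_centralizer_iff.1 h.2 x hx).symm⟩,
    fun h => ⟨h.1, Subgroup.mem_centralizer_iff.2 fun x hx => (h.2 x hx).symm⟩⟩

theorem normalizer_le_Zin (X : Subgroup G) :
    Subgroup.normalizer (X : Set G) ≤ Subgroup.normalizer (Zin X : Set G) := by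
  have key : ∀ g ∈ Subgroup.normalizer (X : Set G), ∀ k ∈ Zin X, g * k * g⁻¹ ∈ Zin X := fun g hg k hk => by
    rw [mem_Zin] at hk ⊢
    refine ⟨conj_mem hg hk.1, fun x hx => ?_⟩
    have h1 := hk.2 (g⁻¹ * x * g) (by simpa using conj_mem (inv_mem hg) hx)
    calc g * k * g⁻¹ * x = g * (k * (g⁻¹ * x * g)) * g⁻¹ := by group
      _ = g * (g⁻¹ * x * g * k) * g⁻¹ := by rw [h1]
      _ = _ := by group
  intro g hg
  refine Solv.mem_normalizer_of_map_conj ?_
  refine Subgroup.eq_of_le_of_card_ge ?_ (le_of_eq (Subgroup.card_map_of_injective (MulEquiv.injective _)).symm)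
  rintro _ ⟨x, hx, rfl⟩
  exact key g hg x hx

theorem Hyp.Zin_ne_bot (h : Hyp y) {X : Subgroup G} (hX : Inv y X) (hX1 : X ≠ ⊥) : Zin X ≠ ⊥ := by
  haveI := h.nilpotent hX
  haveI : Nontrivial X := X.nontrivial_iff_ne_bot.2 hX1
  intro hb
  refine Group.IsNilpotent.center_ne_bot X ((Subgroup.eq_bot_iff_forall _).2 fun z hz => ?_)
  have : ((z : G)) ∈ Zin X := mem_Zin.2 ⟨z.2, fun x hx =>
    (congrArg Subtype.val (Subgroup.mem_center_iff.1 hz ⟨x, hx⟩)).symm⟩
  rw [hb, Subgroup.mem_bot] at this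
  exact Subtype.ext this

/-- An element centralising a subgroup of index two of an invariant subgroup is central. -/
theorem Hyp.central_of_cent (h : Hyp y) {X D : Subgroup G} (hX : Inv y X) (hD : D ≤ X)
    (h2 : Nat.card X = 2 * Nat.card D) {k : G} (hk : k ∈ X) (hkD : ∀ d ∈ D, k * d = d * k) :
    k ∈ Zin X := by
  refine mem_Zin.2 ⟨hk, ?_⟩
  by_cases hsame : ∀ x ∈ X, x ∈ D
  · exact fun x hx => hkD x (hsame x hx)
  push Not at hsame
  obtain ⟨v, hv, hvD⟩ := hsame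
  set c := k * v * k⁻¹ * v⁻¹ with hc
  have hcD : c ∈ D := two_comm_mem hD h2 hk hv
  have hc1 : c = 1 → ∀ x ∈ X, k * x = x * k := by
    intro e x hx
    have hkv : k * v = v * k := by
      calc k * v = c * (v * k) := by rw [hc]; group
        _ = v * k := by rw [e, one_mul]
    by_cases hxD : x ∈ D
    · exact hkD x hxD
    · have hd : v⁻¹ * x ∈ D := by
        rw [two_mul_mem hD h2 (X.inv_mem hv) hx, inv_mem_iff]
        exact ⟨fun e => absurd e hvD, fun e => absurd e hxD⟩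
      calc k * x = k * v * (v⁻¹ * x) := by group
        _ = v * (k * (v⁻¹ * x)) := by rw [hkv, mul_assoc]
        _ = v * (v⁻¹ * x * k) := by rw [hkD _ hd]
        _ = _ := by group
  refine hc1 ?_
  have hout : ∀ x ∈ X, x ∉ D → k * x * k⁻¹ = c * x := by
    intro x hx hxD
    have hd : v⁻¹ * x ∈ D := by
      rw [two_mul_mem hD h2 (X.inv_mem hv) hx, inv_mem_iff]
      exact ⟨fun e => absurd e hvD, fun e => absurd e hxD⟩
    calc k * x * k⁻¹ = k * v * (v⁻¹ * x * k⁻¹) := by group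
      _ = k * v * (k⁻¹ * (k * (v⁻¹ * x)) * k⁻¹) := by group
      _ = k * v * (k⁻¹ * (v⁻¹ * x * k) * k⁻¹) := by rw [hkD _ hd]
      _ = _ := by rw [hc]; group
  -- the three conjugates of `k` multiply to one
  have hyX : ∀ x ∈ X, y * x * y⁻¹ ∈ X := fun x hx => conj_mem hX.1 hx
  have hyX' : ∀ x ∈ X, y⁻¹ * x * y ∈ X := fun x hx => by simpa using conj_mem (inv_mem hX.1) hx
  have hprod : k * (y * k * y⁻¹) * (y * (y * k * y⁻¹) * y⁻¹) = 1 := by
    obtain ⟨f, hf⟩ : ∃ f : X, (f : G)⁻¹ * (y * f * y⁻¹) = k := by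
      let ψ : X → X := fun f => ⟨(f : G)⁻¹ * (y * f * y⁻¹), X.mul_mem (X.inv_mem f.2) (hyX _ f.2)⟩
      have hinj : Function.Injective ψ := by
        intro f g e
        have e1 : (f : G)⁻¹ * (y * f * y⁻¹) = (g : G)⁻¹ * (y * g * y⁻¹) := congrArg Subtype.val e
        have hgf := h.fixed_eq_one hX (X.mul_mem g.2 (X.inv_mem f.2)) (x := (g : G) * (f : G)⁻¹) (by
          calc (g : G) * (f : G)⁻¹ * y = (g : G) * ((f : G)⁻¹ * (y * f * y⁻¹)) * (y * (f : G)⁻¹) := by group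
            _ = (g : G) * ((g : G)⁻¹ * (y * g * y⁻¹)) * (y * (f : G)⁻¹) := by rw [e1]
            _ = _ := by group)
        exact Subtype.ext (mul_inv_eq_one.1 hgf).symm
      obtain ⟨f, hf⟩ := (Finite.injective_iff_surjective.1 hinj) ⟨k, hk⟩
      exact ⟨f, congrArg Subtype.val hf⟩
    have h3 : y * (y * (y * (f : G) * y⁻¹) * y⁻¹) * y⁻¹ = f := by
      calc y * (y * (y * (f : G) * y⁻¹) * y⁻¹) * y⁻¹ = y ^ 3 * f * (y ^ 3)⁻¹ := by
            simp only [pow_succ, pow_zero, one_mul, mul_inv_rev, mul_assoc]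
        _ = f := by rw [h.cube]; group
    rw [← hf]
    calc (f : G)⁻¹ * (y * f * y⁻¹) * (y * ((f : G)⁻¹ * (y * f * y⁻¹)) * y⁻¹) *
          (y * (y * ((f : G)⁻¹ * (y * f * y⁻¹)) * y⁻¹) * y⁻¹)
        = (f : G)⁻¹ * (y * (y * (y * (f : G) * y⁻¹) * y⁻¹) * y⁻¹) := by group
      _ = 1 := by rw [h3]; group
  -- the three conjugates of `D`
  have hcom : ∀ a ∈ X, ∀ b ∈ X, a * b * a⁻¹ * b⁻¹ ∈ D := fun a ha b hb => two_comm_mem hD h2 ha hb
  have hne : ∃ d ∈ D, y⁻¹ * d * y ∉ D := by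
    by_contra hall
    push Not at hall
    have hyD : Inv y D := by
      refine ⟨?_, fun h3 => hX.2 (h3.trans (Subgroup.card_dvd_of_le hD))⟩
      have : y⁻¹ ∈ Subgroup.normalizer (D : Set G) := by
        refine Solv.mem_normalizer_of_map_conj ?_
        refine Subgroup.eq_of_le_of_card_ge ?_
          (le_of_eq (Subgroup.card_map_of_injective (MulEquiv.injective _)).symm)
        rintro _ ⟨x, hx, rfl⟩
        simpa using hall x hx
      simpa using inv_mem this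
    have := h.card_quotient_mod_three hyD hX h2
    norm_num at this
  obtain ⟨d, hd, hd2⟩ := hne
  set c2 := y * c * y⁻¹ with hc2
  set c3 := y * c2 * y⁻¹ with hc3
  have mc : ∀ x ∈ X, y⁻¹ * (x * k * x⁻¹ * k⁻¹) * y ∈ D := fun x hx => by
    rw [show y⁻¹ * (x * k * x⁻¹ * k⁻¹) * y =
      y⁻¹ * x * y * (y⁻¹ * k * y) * (y⁻¹ * x * y)⁻¹ * (y⁻¹ * k * y)⁻¹ by group]
    exact hcom _ (hyX' _ hx) _ (hyX' _ hk)
  -- `c3` lies in the second conjugate
  have hc3D : y⁻¹ * c3 * y ∈ D := by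
    rw [show y⁻¹ * c3 * y = y * k * y⁻¹ * (y * v * y⁻¹) * (y * k * y⁻¹)⁻¹ * (y * v * y⁻¹)⁻¹ by
      rw [hc3, hc2, hc]; group]
    exact hcom _ (hyX _ hk) _ (hyX _ hv)
  have hσ2 : ∀ x ∈ X, y⁻¹ * x * y ∉ D → y * k * y⁻¹ * x * (y * k * y⁻¹)⁻¹ = c2 * x := fun x hx hxD => by
    have := hout _ (hyX' x hx) hxD
    calc y * k * y⁻¹ * x * (y * k * y⁻¹)⁻¹ = y * (k * (y⁻¹ * x * y) * k⁻¹) * y⁻¹ := by group
      _ = y * (c * (y⁻¹ * x * y)) * y⁻¹ := by rw [this]
      _ = _ := by rw [hc2]; group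
  set k2 := y * k * y⁻¹ with hk2
  set k3 := y * k2 * y⁻¹ with hk3
  have hσ23 : k2 * (k3 * d * k3⁻¹) * k2⁻¹ = d := by
    calc k2 * (k3 * d * k3⁻¹) * k2⁻¹ = k⁻¹ * ((k * k2 * k3) * d * (k * k2 * k3)⁻¹) * k := by group
      _ = k⁻¹ * d * k := by rw [hprod]; group
      _ = k⁻¹ * (d * k) := by group
      _ = k⁻¹ * (k * d) := by rw [hkD d hd]
      _ = _ := by group
  have hdX := hD hd
  have hconc : ∀ e : G, c2 * e = 1 → (e = 1 ∨ e = c3) → c = 1 := by
    intro e he hcases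
    rcases hcases with e1 | e1
    · rw [e1, mul_one] at he
      exact conj_eq_one_iff.1 he
    · rw [e1] at he
      have h1 : c * c2 = 1 := by
        calc c * c2 = y⁻¹ * (c2 * c3) * y := by rw [hc3, hc2]; group
          _ = 1 := by rw [he]; group
      have h2' : c3 = c := by
        rw [eq_inv_of_mul_eq_one_right he, ← eq_inv_of_mul_eq_one_left h1]
      refine h.eq_one_of_commute hX.2 (hD hcD) (w := y ^ 2)
        (by rw [← pow_mul, mul_comm, pow_mul, h.cube, one_pow])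
        (fun e' => h.ne_one (by
          calc y = y ^ 3 * (y ^ 2)⁻¹ := by group
            _ = 1 := by rw [e', h.cube]; group)) ?_
      calc c * y ^ 2 = c3 * y ^ 2 := by rw [h2']
        _ = _ := by rw [hc3, hc2, pow_two]; group
  by_cases hd3 : y⁻¹ * (y⁻¹ * d * y) * y ∈ D
  · have e3 : k3 * d * k3⁻¹ = d := by
      have := hkD _ hd3
      calc k3 * d * k3⁻¹ = y * y * (k * (y⁻¹ * (y⁻¹ * d * y) * y)) * k⁻¹ * y⁻¹ * y⁻¹ := by
            rw [hk3, hk2]; simp only [mul_assoc, mul_inv_rev, inv_inv, mul_inv_cancel_left, inv_mul_cancel_left]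
        _ = y * y * (y⁻¹ * (y⁻¹ * d * y) * y * k) * k⁻¹ * y⁻¹ * y⁻¹ := by rw [this]
        _ = _ := by group
    rw [e3, hσ2 d hdX hd2, mul_eq_right] at hσ23
    exact hconc 1 (by rw [mul_one, hσ23]) (Or.inl rfl)
  · have e3 : k3 * d * k3⁻¹ = c3 * d := by
      have := hout _ (hyX' _ (hyX' _ hdX)) hd3
      calc k3 * d * k3⁻¹ = y * y * (k * (y⁻¹ * (y⁻¹ * d * y) * y) * k⁻¹) * y⁻¹ * y⁻¹ := by
            rw [hk3, hk2]; simp only [mul_assoc, mul_inv_rev, inv_inv, mul_inv_cancel_left, inv_mul_cancel_left]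
        _ = y * y * (c * (y⁻¹ * (y⁻¹ * d * y) * y)) * y⁻¹ * y⁻¹ := by rw [this]
        _ = _ := by rw [hc3, hc2]; group
    have hmem : y⁻¹ * (c3 * d) * y ∉ D := by
      rw [show y⁻¹ * (c3 * d) * y = y⁻¹ * c3 * y * (y⁻¹ * d * y) by group,
        two_mul_mem hD h2 (hD hc3D) (hyX' _ hdX)]
      exact fun e => hd2 (e.1 hc3D)
    have hX3 : c3 * d ∈ X := X.mul_mem (by simpa [hc3, hc2] using hyX _ (hyX _ (hD hcD))) hdX
    rw [e3, hσ2 _ hX3 hmem, ← mul_assoc, mul_eq_right] at hσ23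
    exact hconc c3 hσ23 (Or.inr rfl)

theorem two_pow_of_pgroup {X : Subgroup G} (hX : IsPGroup 2 X) : ∃ n, Nat.card X = 2 ^ n :=
  haveI : Fact (Nat.Prime 2) := ⟨Nat.prime_two⟩
  IsPGroup.iff_card.1 hX

/-- An outer element centralising a subgroup of index two forces order four. -/
theorem Hyp.four_of_outer [IsSimpleGroup G] (h : Hyp y) {X D T : Subgroup G} (hX : IsMaxInv y X)
    (hXp : IsPGroup 2 X) (hT : IsPGroup 2 T) (hXT : X ≤ T) (hTX : Nat.card T = 2 * Nat.card X)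
    (hD : D ≤ X) (hDX : Nat.card X = 2 * Nat.card D)
    {u : G} (hu : u ∈ T) (huX : u ∉ X) (huD : ∀ d ∈ D, u * d = d * u) : Nat.card X = 4 := by
  classical
  haveI := Fintype.ofFinite G
  haveI : Fact (Nat.Prime 2) := ⟨Nat.prime_two⟩
  set N := Subgroup.normalizer (X : Set G) with hN
  have hTN : T ≤ N := two_le_normalizer hXT hTX
  have hXN : X ≤ N := Subgroup.le_normalizer
  have hN6 : Nat.card N = 6 * Nat.card X := by
    rcases h.max_index hX with e | e
    · exfalso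
      have h1 := Subgroup.card_dvd_of_le hTN
      rw [hTX, e] at h1
      exact absurd (Nat.dvd_of_mul_dvd_mul_right Nat.card_pos h1) (by norm_num)
    · exact e
  set Y := Subgroup.zpowers y with hY
  have hYN : Y ≤ N := Subgroup.zpowers_le.2 hX.1.1
  have hcY : Nat.card Y = 3 := by rw [hY, Nat.card_zpowers, h.orderOf_eq]
  have hH1 : Nat.card (X ⊔ Y : Subgroup G) = 3 * Nat.card X := by
    refine Nat.dvd_antisymm ?_ ?_
    · have := card_sup_dvd_mul hYN
      rwa [hcY, mul_comm] at this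
    · refine Nat.Coprime.mul_dvd_of_dvd_of_dvd ?_ (hcY ▸ Subgroup.card_dvd_of_le le_sup_right)
        (Subgroup.card_dvd_of_le le_sup_left)
      exact Nat.prime_three.coprime_iff_not_dvd.2 hX.1.2
  have hH1N : (X ⊔ Y : Subgroup G) ≤ N := sup_le hXN hYN
  have hin : u * y * u⁻¹ ∈ X ⊔ Y := two_conj_mem hH1N (by rw [hN6, hH1]; ring) (hTN hu)
    (Subgroup.mem_sup_right (Subgroup.mem_zpowers y))
  obtain ⟨z, hz, x, hx, he⟩ : ∃ z ∈ Y, ∃ x ∈ X, z * x = u * y * u⁻¹ := by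
    have h1 : ((Y : Set G) * (X : Set G)) = ((Y ⊔ X : Subgroup G) : Set G) :=
      (Subgroup.coe_mul_of_left_le_normalizer_right Y X hYN).symm
    have h2 : u * y * u⁻¹ ∈ ((Y : Set G) * (X : Set G)) := by rw [h1, sup_comm]; exact hin
    obtain ⟨z, hz, x, hx, e⟩ := h2
    exact ⟨z, hz, x, hx, e⟩
  have hinv : u * y * u⁻¹ = y⁻¹ * x := by
    obtain ⟨i, hi⟩ := Subgroup.mem_zpowers_iff.1 hz
    have h3 : i % 3 = 0 ∨ i % 3 = 1 ∨ i % 3 = 2 := by omega
    rw [← hi, zpow_eq_zpow_emod' i h.cube] at he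
    rcases h3 with e | e | e
    · exfalso
      have e' : (i % ((3 : ℕ) : ℤ)) = 0 := by exact_mod_cast e
      rw [e', zpow_zero, one_mul] at he
      refine h.ne_one ?_
      have := eq_one_of_cube hX.1.2 hx (by rw [he, conj_pow, h.cube]; group)
      rw [he, conj_eq_one_iff] at this
      exact this
    · exfalso
      have e' : (i % ((3 : ℕ) : ℤ)) = 1 := by exact_mod_cast e
      rw [e', zpow_one] at he
      let ψ : X → X := fun f => ⟨y⁻¹ * f * y * (f : G)⁻¹,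
        X.mul_mem (by simpa using conj_mem (inv_mem hX.1.1) f.2) (X.inv_mem f.2)⟩
      have hinj : Function.Injective ψ := by
        intro f g e1
        have e2 : y⁻¹ * f * y * (f : G)⁻¹ = y⁻¹ * g * y * (g : G)⁻¹ := congrArg Subtype.val e1
        have h4 := h.fixed_eq_one hX.1 (X.mul_mem (X.inv_mem g.2) f.2) (x := (g : G)⁻¹ * f) (by
          calc (g : G)⁻¹ * f * y = (g : G)⁻¹ * y * (y⁻¹ * f * y * (f : G)⁻¹) * f := by group
            _ = (g : G)⁻¹ * y * (y⁻¹ * g * y * (g : G)⁻¹) * f := by rw [e2]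
            _ = _ := by group)
        exact Subtype.ext (inv_mul_eq_one.1 h4).symm
      obtain ⟨f, hf⟩ := (Finite.injective_iff_surjective.1 hinj) ⟨x, hx⟩
      have hf' : y⁻¹ * f * y * (f : G)⁻¹ = x := congrArg Subtype.val hf
      have hw : (f : G)⁻¹ * u * y = y * ((f : G)⁻¹ * u) := by
        calc (f : G)⁻¹ * u * y = (f : G)⁻¹ * (u * y * u⁻¹) * u := by group
          _ = (f : G)⁻¹ * (y * (y⁻¹ * f * y * (f : G)⁻¹)) * u := by rw [← he, ← hf']
          _ = _ := by group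
      have hwT : (f : G)⁻¹ * u ∈ T := T.mul_mem (T.inv_mem (hXT f.2)) hu
      obtain ⟨n, hn⟩ := two_pow_of_pgroup hT
      have := eq_one_of_cube (fun h3' => by
        rw [hn] at h3'
        exact absurd (Nat.prime_three.dvd_of_dvd_pow h3') (by norm_num)) hwT (h.cent_cube _ hw)
      exact huX (by rw [← inv_mul_eq_one.1 this]; exact f.2)
    · have e' : (i % ((3 : ℕ) : ℤ)) = 2 := by exact_mod_cast e
      rw [e', show (2 : ℤ) = ((2 : ℕ) : ℤ) from rfl, zpow_natCast,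
        show y ^ 2 = y⁻¹ from eq_inv_of_mul_eq_one_left (by rw [← pow_succ, h.cube])] at he
      exact he.symm
  -- the meet of two conjugates of `D`
  set D2 := D.map (MulAut.conj y).toMonoidHom with hD2
  have mD2 : ∀ e, e ∈ D2 ↔ y⁻¹ * e * y ∈ D := fun e => by
    rw [hD2, Subgroup.mem_map]
    constructor
    · rintro ⟨d, hd, rfl⟩
      simpa [mul_assoc] using hd
    · intro he
      exact ⟨_, he, by simp [mul_assoc]⟩
  have hD2X : D2 ≤ X := fun e he => by
    have := conj_mem hX.1.1 (hD ((mD2 e).1 he))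
    simpa [mul_assoc] using this
  have hD2c : Nat.card D2 = Nat.card D := Subgroup.card_map_of_injective (MulEquiv.injective _)
  set E := (D ⊓ D2).subgroupOf X with hE
  haveI : E.Normal := by
    refine ⟨fun e he g => ?_⟩
    rw [hE, Subgroup.mem_subgroupOf] at he ⊢
    exact ⟨two_conj_mem hD hDX g.2 he.1, two_conj_mem hD2X (hD2c ▸ hDX) g.2 he.2⟩
  have hbot : D ⊓ D2 = ⊥ := by
    refine (Subgroup.eq_bot_iff_forall _).2 fun e0 he0 => ?_
    by_contra hne
    have hEne : E ≠ ⊥ := fun hb => hne (congrArg Subtype.val (Subgroup.mem_bot.1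
      (show (⟨e0, hD he0.1⟩ : X) ∈ (⊥ : Subgroup X) from hb ▸ (Subgroup.mem_subgroupOf.2 he0))))
    refine GalDeg.inf_center_ne_bot hXp E hEne ((Subgroup.eq_bot_iff_forall _).2 fun e he => Subtype.ext ?_)
    have h1 : (e : G) ∈ D ⊓ D2 := Subgroup.mem_subgroupOf.1 he.1
    have hZ : (e : G) ∈ Zin X := mem_Zin.2 ⟨e.2, fun x hx =>
      (congrArg Subtype.val (Subgroup.mem_center_iff.1 he.2 ⟨x, hx⟩)).symm⟩
    have hZy : y * (e : G) * y⁻¹ ∈ Zin X := conj_mem (normalizer_le_Zin X hX.1.1) hZ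
    have h2 := (mD2 _).1 h1.2
    refine h.eq_one_of_commute hX.1.2 e.2 (w := y ^ 2)
      (by rw [← pow_mul, mul_comm, pow_mul, h.cube, one_pow])
      (fun e' => h.ne_one (by
        calc y = y ^ 3 * (y ^ 2)⁻¹ := by group
          _ = 1 := by rw [e', h.cube]; group)) ?_
    have k1 : u * (y⁻¹ * e * y) * u⁻¹ = y⁻¹ * e * y := by rw [huD _ h2]; group
    have k2 : u * (e : G) * u⁻¹ = e := by rw [huD _ h1.1]; group
    have k3 : y * (e : G) * y⁻¹ = y⁻¹ * e * y := by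
      calc y * (e : G) * y⁻¹ = x⁻¹ * (y * e * y⁻¹ * x) := by
            rw [(mem_Zin.1 hZy).2 x hx]; group
        _ = (y⁻¹ * x)⁻¹ * (e : G) * (y⁻¹ * x) := by group
        _ = (u * y * u⁻¹)⁻¹ * (u * e * u⁻¹) * (u * y * u⁻¹) := by rw [← hinv, k2]
        _ = u * (y⁻¹ * e * y) * u⁻¹ := by group
        _ = _ := k1
    calc (e : G) * y ^ 2 = y * (y⁻¹ * e * y) * y := by rw [pow_two]; group
      _ = y * (y * e * y⁻¹) * y := by rw [k3]
      _ = _ := by rw [pow_two]; group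
  have hle : Nat.card D * Nat.card D ≤ Nat.card X := by
    rw [show Nat.card D * Nat.card D = Nat.card (D × D2) by rw [Nat.card_prod, hD2c]]
    refine Nat.card_le_card_of_injective (fun t => (⟨(t.1 : G) * t.2, X.mul_mem (hD t.1.2) (hD2X t.2.2)⟩ : X))
      fun a b e => ?_
    have e1 : (a.1 : G) * a.2 = b.1 * b.2 := congrArg Subtype.val e
    have hm : (b.1 : G)⁻¹ * a.1 ∈ D ⊓ D2 := by
      refine ⟨D.mul_mem (D.inv_mem b.1.2) a.1.2, ?_⟩
      rw [show (b.1 : G)⁻¹ * a.1 = b.2 * (a.2 : G)⁻¹ by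
        calc (b.1 : G)⁻¹ * a.1 = (b.1 : G)⁻¹ * ((a.1 : G) * a.2) * (a.2 : G)⁻¹ := by group
          _ = (b.1 : G)⁻¹ * ((b.1 : G) * b.2) * (a.2 : G)⁻¹ := by rw [e1]
          _ = _ := by group]
      exact D2.mul_mem b.2.2 (D2.inv_mem a.2.2)
    rw [hbot, Subgroup.mem_bot, inv_mul_eq_one] at hm
    refine Prod.ext (Subtype.ext hm.symm) (Subtype.ext (mul_left_cancel (a := (a.1 : G)) ?_))
    rw [e1, hm]
  have hD2' : Nat.card D ≤ 2 := by
    rw [hDX] at hle
    exact Nat.le_of_mul_le_mul_right hle Nat.card_pos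
  have := h.card_mod_three hX.1
  have := Nat.card_pos (α := D)
  interval_cases hk : Nat.card D <;> omega

/-- Two maximal ones of index two in one two-group have order four. -/
theorem Hyp.pair_four [IsSimpleGroup G] (h : Hyp y) {y' : G} (h' : Hyp y') {X Y T : Subgroup G}
    (hX : IsMaxInv y X) (hY : IsMaxInv y' Y) (hT : IsPGroup 2 T) (hXT : X ≤ T) (hYT : Y ≤ T)
    (hTX : Nat.card T = 2 * Nat.card X) (hTY : Nat.card T = 2 * Nat.card Y) (hne : X ≠ Y) :
    Nat.card X = 4 := by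
  haveI : Fact (Nat.Prime 2) := ⟨Nat.prime_two⟩
  obtain ⟨v, hvX, hvY⟩ : ∃ v ∈ X, v ∉ Y := by
    by_contra hno
    push Not at hno
    exact hne (Subgroup.eq_of_le_of_card_ge hno (by omega))
  obtain ⟨w, hwY, hwX⟩ : ∃ w ∈ Y, w ∉ X := by
    by_contra hno
    push Not at hno
    exact hne (Subgroup.eq_of_le_of_card_ge hno (by omega)).symm
  have hDX := two_inf hXT hYT hTY hvX hvY
  have hDY := two_inf hYT hXT hTX hwY hwX
  rw [inf_comm] at hDY
  have hXp : IsPGroup 2 X := hT.to_le hXT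
  have hYp : IsPGroup 2 Y := hT.to_le hYT
  by_cases h1 : ∃ u ∈ Zin Y, u ∉ X
  · obtain ⟨u, hu, huX⟩ := h1
    exact h.four_of_outer hX hXp hT hXT hTX inf_le_left hDX (hYT hu.1) huX
      fun d hd => (mem_Zin.1 hu).2 d hd.2
  by_cases h2 : ∃ u ∈ Zin X, u ∉ Y
  · obtain ⟨u, hu, huY⟩ := h2
    have := h'.four_of_outer hY hYp hT hYT hTY inf_le_right hDY (hXT hu.1) huY
      fun d hd => (mem_Zin.1 hu).2 d hd.1
    omega
  push Not at h1 h2
  exfalso
  have hW : Zin X = Zin Y := by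
    refine le_antisymm (fun k hk => ?_) fun k hk => ?_
    · exact h'.central_of_cent hY.1 inf_le_right hDY (h2 k hk) fun d hd => (mem_Zin.1 hk).2 d hd.1
    · exact h.central_of_cent hX.1 inf_le_left hDX (h1 k hk) fun d hd => (mem_Zin.1 hk).2 d hd.2
  have hZi : Inv y (Zin X) := ⟨normalizer_le_Zin X hX.1.1,
    fun h3 => hX.1.2 (h3.trans (Subgroup.card_dvd_of_le inf_le_left))⟩
  obtain ⟨F, -, hFH, hHF, hF, hc⟩ := h.exists_core hZi (h.Zin_ne_bot hX.1 hX.2.1)
  set H := Subgroup.normalizer (Zin X : Set G) with hH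
  have hTH : T ≤ H := (two_le_normalizer hXT hTX).trans (normalizer_le_Zin X)
  have hy'H : y' ∈ H := by rw [hH, hW]; exact normalizer_le_Zin Y hY.1.1
  have hF' : Inv y' F := ⟨hHF hy'H, hF.2⟩
  have key : ∀ {z : G} {Z : Subgroup G}, Hyp z → IsMaxInv z Z → Inv z F → Z ≤ T →
      Nat.card T = 2 * Nat.card Z → F = Z := by
    intro z Z hz hZ hFz hZT hTZ
    have hFle : F ≤ Z := le_sup_left.trans
      (hZ.2.2 _ (hFz.sup hZ.1 (hZT.trans (hTH.trans hHF))) le_sup_right).le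
    obtain ⟨t, ht⟩ := Subgroup.card_dvd_of_le hFle
    have ht3 : t % 3 = 1 := hz.card_quotient_mod_three hFz hZ.1 (by rw [ht, mul_comm])
    have hd : 2 * t ∣ 60 := by
      have h1 := Subgroup.card_dvd_of_le hTH
      rw [hTZ, ht] at h1
      rcases hc with c | c | ⟨c, -⟩ <;> rw [c] at h1
      · exact (Nat.dvd_of_mul_dvd_mul_right (Nat.card_pos (α := F))
          (show 2 * t * Nat.card F ∣ 3 * Nat.card F by rw [mul_assoc, mul_comm t]; exact h1)).trans ⟨20, rfl⟩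
      · exact (Nat.dvd_of_mul_dvd_mul_right (Nat.card_pos (α := F))
          (show 2 * t * Nat.card F ∣ 6 * Nat.card F by rw [mul_assoc, mul_comm t]; exact h1)).trans ⟨10, rfl⟩
      · exact Nat.dvd_of_mul_dvd_mul_right (Nat.card_pos (α := F))
          (show 2 * t * Nat.card F ∣ 60 * Nat.card F by rw [mul_assoc, mul_comm t]; exact h1)
    obtain ⟨n, hn⟩ := two_pow_of_pgroup (hT.to_le hZT)
    obtain ⟨i, hi, rfl⟩ := (Nat.dvd_prime_pow Nat.prime_two).1 (show t ∣ 2 ^ n from ⟨_, by rw [← hn, ht, mul_comm]⟩)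
    have hi2 : i ≤ 1 := by
      by_contra hi'
      have : 2 ^ 3 ∣ 2 * 2 ^ i := by
        rw [← pow_succ']
        exact pow_dvd_pow 2 (by omega)
      have := this.trans hd
      norm_num at this
    refine Subgroup.eq_of_le_of_card_ge hFle ?_
    interval_cases i
    · rw [ht, pow_zero, mul_one]
    · norm_num at ht3
  exact hne ((key h hX hF hXT hTX).symm.trans (key h' hY hF' hYT hTY))

end Cfsg.Agent.Char.OrderNine.OneClass
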